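import Cfsg.Agent.Lib.Fus.Fi24Model.Group
import Cfsg.Agent.Lib.Fus.M23U.TypeOf.Main
import Cfsg.Agent.Lib.Spor.FischerPrimitive

/-! The model is primitive of type M(24); primitive groups of types M(22) and M(23). -/

set_option autoImplicit false
set_option linter.style.haveILetI false
set_option maxRecDepth 100000

open Cfsg
open Cfsg.Agent.Spor.Cos
open Cfsg.Agent.Spor.Cos.Fi23 (actA piA g g_sq)
open Cfsg.Agent.Block.FischerTypes
open Cfsg.Agent.Fus.M23U.TypeOf (dp range_dp classD)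
open Cfsg.Agent.Fus.M23U.Triality (pt ge gi HB NB rhoB)

namespace Cfsg.Agent.Fus.Fi24Model

attribute [local instance] Cfsg.Agent.Spor.Cos.Fi23.finite
attribute [local irreducible] kimN limN mimN imA permOf

/-- The action into the group. -/
noncomputable def incG : HH →* ↥GG := inc.codRestrict GG inc_GG

theorem incG_injective : Function.Injective incG := fun _ _ h => inc_injective (congrArg Subtype.val h)

theorem incG_tH (p : Fin actA.N) : incG (tH p) = TG (pP p) := Subtype.ext (T_pP p).symm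

theorem perp_zero : {y : ↥GG | y ∈ DD ∧ y ≠ TG o0 ∧ Commute (TG o0) y} = incG '' Set.range tH := by
  ext y
  constructor
  · rintro ⟨⟨x, rfl⟩, hne, hc⟩
    have hc' : Commute lam (T x) := by
      have := hc.map GG.subtype
      rwa [show GG.subtype (TG o0) = lam from T_o0] at this
    obtain rfl | ⟨p, rfl⟩ | ⟨i, rfl⟩ := kinds x
    · exact absurd rfl hne
    · exact ⟨_, ⟨p, rfl⟩, incG_tH p⟩
    · exact absurd rfl ((commute_lam_iff _).1 hc' i)
  · rintro ⟨_, ⟨p, rfl⟩, rfl⟩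
    refine ⟨⟨pP p, (incG_tH p).symm⟩, fun e => pP_ne_o0 p (TG_injective ((incG_tH p).symm.trans e)), ?_⟩
    refine Subtype.ext ?_
    show T o0 * inc (tH p) = inc (tH p) * T o0
    rw [T_o0]
    exact (lam_Tp p).eq

theorem tH_gen : Subgroup.closure (Set.range tH) = ⊤ := by
  set C := Subgroup.closure (Set.range tH)
  have hd : ∀ s < 10, ((g s, sgn) : HH) ∈ C := fun s hs => by
    have hm : g s ∈ classD := M23U.TypeOf.g_conj s hs
    rw [← range_dp] at hm
    obtain ⟨p, hp⟩ := hm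
    exact Subgroup.subset_closure ⟨p, by rw [tH, hp]⟩
  let w : List ℕ := (List.replicate 9 [0, 1, 2, 3, 4, 5, 8]).flatten
  have hw : w ∈ Fi23.words := by decide +kernel
  have hev : ∀ v : List ℕ, (∀ s ∈ v, s < 10) → ((ev g v, sgn ^ v.length) : HH) ∈ C := fun v => by
    induction v with
    | nil => exact fun _ => C.one_mem
    | cons s v ih =>
      intro h
      have := mul_mem (hd s (h s (List.mem_cons_self ..))) (ih fun t ht => h t (List.mem_cons_of_mem _ ht))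
      rwa [List.length_cons, pow_succ']
  have hl : ((1, sgn) : HH) ∈ C := by
    have := hev w (words_lt w hw)
    rwa [Fi23.g_words w hw, show sgn ^ w.length = sgn by decide] at this
  have hy : ∀ y, ((y, 1) : HH) ∈ C := fun y => by
    refine fi23_induction (P := fun y => ((y, 1) : HH) ∈ C) C.one_mem (fun a b ha hb => ?_) (fun s hs => ?_) y
    · rw [show ((a * b, 1) : HH) = (a, 1) * (b, 1) from Prod.ext rfl (one_mul _).symm]
      exact mul_mem ha hb
    · rw [show ((g s, 1) : HH) = (g s, sgn) * (1, sgn) from Prod.ext (mul_one _).symm sgn_sq.symm]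
      exact mul_mem (hd s hs) hl
  refine eq_top_iff.2 fun x _ => ?_
  obtain ⟨y, e⟩ := x
  rcases sgn_cases e with rfl | rfl
  · exact hy y
  · rw [show ((y, sgn) : HH) = (y, 1) * (1, sgn) from Prod.ext (mul_one _).symm (one_mul _).symm]
    exact mul_mem (hy y) hl

theorem perp_group : PerpGroup DD (TG o0) = incG.range := by
  show Subgroup.closure {y : ↥GG | y ∈ DD ∧ y ≠ TG o0 ∧ Commute (TG o0) y} = _
  rw [perp_zero, ← MonoidHom.map_closure, tH_gen, ← MonoidHom.range_eq_map]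

theorem m23_quot : IsOfTypeM23 (PerpQuot DD (TG o0))
    ((QuotientGroup.mk : ↥(PerpGroup DD (TG o0)) → _) ''
      {x : ↥(PerpGroup DD (TG o0)) | (x : ↥GG) ∈ {y : ↥GG | y ∈ DD ∧ y ≠ TG o0 ∧ Commute (TG o0) y}}) := by
  let e : HH ≃* ↥(PerpGroup DD (TG o0)) :=
    (MonoidHom.ofInjective incG_injective).trans (MulEquiv.subgroupCongr perp_group.symm)
  have he : ∀ x, ((e x : ↥(PerpGroup DD (TG o0))) : ↥GG) = incG x := fun _ => rfl
  let ψ : ↥(PerpGroup DD (TG o0)) →* Spor.Fi23 := (MonoidHom.fst _ _).comp e.symm.toMonoidHom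
  have hψ : Function.Surjective ψ := fun y => ⟨e (y, 1), by simp [ψ]⟩
  have hker : ψ.ker = Subgroup.center ↥(PerpGroup DD (TG o0)) := by
    ext x
    obtain ⟨⟨y, z⟩, rfl⟩ := e.surjective x
    rw [MonoidHom.mem_ker, show ψ (e (y, z)) = y by simp [ψ]]
    constructor
    · rintro rfl
      refine Subgroup.mem_center_iff.2 fun u => ?_
      obtain ⟨⟨y', z'⟩, rfl⟩ := e.surjective u
      rw [← map_mul, ← map_mul]
      exact congrArg e (Prod.ext (by simp) (mul_comm _ _))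
    · intro h
      have hc : y ∈ Subgroup.center Spor.Fi23 := Subgroup.mem_center_iff.2 fun y' => by
        have h' := Subgroup.mem_center_iff.1 h (e (y', 1))
        rw [← map_mul, ← map_mul] at h'
        exact congrArg Prod.fst (e.injective h')
      rwa [M23U.TypeOf.center_bot, Subgroup.mem_bot] at hc
  let τ : Spor.Fi23 ≃* PerpQuot DD (TG o0) :=
    (QuotientGroup.quotientKerEquivOfSurjective ψ hψ).symm.trans (QuotientGroup.quotientMulEquivOfEq hker)
  have hτ : ∀ x, τ (ψ x) = (x : PerpQuot DD (TG o0)) := fun x => by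
    show QuotientGroup.quotientMulEquivOfEq hker
      ((QuotientGroup.quotientKerEquivOfSurjective ψ hψ).symm (ψ x)) = _
    have : (QuotientGroup.quotientKerEquivOfSurjective ψ hψ).symm (ψ x) = (x : _ ⧸ ψ.ker) := by
      rw [MulEquiv.symm_apply_eq]; rfl
    rw [this, QuotientGroup.quotientMulEquivOfEq_mk]
  convert m23_map τ M23U.TypeOf.isOfTypeM23 using 1
  ext q
  constructor
  · rintro ⟨x, hx, rfl⟩
    rw [Set.mem_setOf_eq, perp_zero] at hx
    obtain ⟨_, ⟨p, rfl⟩, hp⟩ := hx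
    refine ⟨dp p, range_dp ▸ ⟨p, rfl⟩, ?_⟩
    rw [← hτ]
    refine congrArg τ ?_
    rw [show x = e (tH p) from Subtype.ext hp.symm]
    simp [ψ, tH]
  · rintro ⟨y, hy, rfl⟩
    rw [← range_dp] at hy
    obtain ⟨p, rfl⟩ := hy
    refine ⟨e (tH p), ?_, ?_⟩
    · rw [Set.mem_setOf_eq, perp_zero]; exact ⟨_, ⟨p, rfl⟩, (he _).symm⟩
    · rw [← hτ]; simp [ψ, tH]

theorem commute_kap_iff (p : Fin actA.N) : Commute kap (Tp p) ↔ inW p = true := by
  constructor
  · intro h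
    rcases Bool.eq_false_or_eq_true (inW p) with hp | hp
    · exact hp
    have e := (kap_out p hp).2.2
    rw [h.eq, mul_assoc, kap_sq, mul_one] at e
    have hk : kap = Tp p := by
      have e' : Tp p * (kap * Tp p) = Tp p * 1 := by rw [mul_one, ← mul_assoc]; exact e.symm
      exact (eq_inv_of_mul_eq_one_left (mul_left_cancel e')).trans (Tp_inv p)
    rw [← T_cpt, ← T_pP] at hk
    exact absurd (T_injective hk) (pA_ne_pP _ p)
  · intro h
    obtain ⟨j, hj, rfl⟩ := exists_pt h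
    exact Lh_kap (tH_mem hj)

theorem common_group : Subgroup.closure ({y : ↥GG | y ∈ DD ∧ y ≠ TG o0 ∧ Commute (TG o0) y} ∩
    {y : ↥GG | y ∈ DD ∧ y ≠ TG cpt ∧ Commute (TG cpt) y}) = Lh.map incG := by
  have hset : ({y : ↥GG | y ∈ DD ∧ y ≠ TG o0 ∧ Commute (TG o0) y} ∩
      {y : ↥GG | y ∈ DD ∧ y ≠ TG cpt ∧ Commute (TG cpt) y}) = incG '' {x | ∃ p : Fin actA.N, inW p = true ∧ tH p = x} := by
    rw [perp_zero]
    ext y
    constructor
    · rintro ⟨⟨_, ⟨p, rfl⟩, rfl⟩, -, -, hc⟩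
      refine ⟨_, ⟨p, ?_, rfl⟩, rfl⟩
      have := hc.map GG.subtype
      rw [show GG.subtype (TG cpt) = kap from T_cpt] at this
      exact (commute_kap_iff p).1 this
    · rintro ⟨_, ⟨p, hp, rfl⟩, rfl⟩
      refine ⟨⟨_, ⟨p, rfl⟩, rfl⟩, ⟨pP p, (incG_tH p).symm⟩,
        fun e => pA_ne_pP _ p (TG_injective ((incG_tH p).symm.trans e)).symm, Subtype.ext ?_⟩
      show T cpt * inc (tH p) = inc (tH p) * T cpt
      rw [T_cpt]
      exact ((commute_kap_iff p).2 hp).eq
  rw [hset, ← MonoidHom.map_closure]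
  refine congrArg (Subgroup.map incG) (le_antisymm ((Subgroup.closure_le _).2 ?_) ?_)
  · rintro _ ⟨p, hp, rfl⟩
    obtain ⟨j, hj, rfl⟩ := exists_pt hp
    exact tH_mem hj
  · rw [Lh]
    refine Subgroup.closure_mono ?_
    rintro _ ⟨k, hk, rfl⟩
    exact ⟨pt (gi k), inW_pt (M23U.Triality.gi_lt (by omega)).1, by
      rw [tH, M23U.Triality.ge_eq (show k < 11 by omega)]; rfl⟩

/-- The projection of the stabiliser. -/
theorem nonempty_Lh : Nonempty (↥Lh ≃* ↥HB) := by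
  let f : ↥Lh →* ↥HB := ((MonoidHom.fst Spor.Fi23 (Multiplicative (ZMod 2))).comp Lh.subtype).codRestrict HB
    fun x => Lh_map ▸ ⟨_, x.2, rfl⟩
  have hs : Function.Surjective f := fun y => by
    obtain ⟨x, hx, e⟩ : (y : Spor.Fi23) ∈ Lh.map (MonoidHom.fst Spor.Fi23 (Multiplicative (ZMod 2))) := by
      rw [Lh_map]; exact y.2
    exact ⟨⟨x, hx⟩, Subtype.ext e⟩
  have hc : Nat.card ↥Lh = Nat.card ↥HB := by
    rw [card_HB, Lh_eq]
    have h := Sh.card_mul_index
    rw [Sh_index, card_HH] at h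
    exact Nat.eq_of_mul_eq_mul_right (by norm_num : 0 < 275264) (h.trans (by norm_num))
  exact ⟨MulEquiv.ofBijective f ((Nat.bijective_iff_surjective_and_card f).2 ⟨hs, hc⟩)⟩

theorem center_HB : Subgroup.center ↥HB = ⊥ :=
  (Subgroup.eq_bot_iff_forall _).2 fun z hz => Subtype.ext (M23U.Triality.centralizer_bot z.2 fun n hn =>
    (congrArg Subtype.val (Subgroup.mem_center_iff.1 hz
      ⟨n, M23U.Triality.NB_le.trans M23U.Triality.KB_le hn⟩)).symm)

theorem isOfTypeM24 : IsOfTypeM24 ↥GG DD := by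
  refine ⟨center_GG, TG o0, ⟨o0, rfl⟩, TG cpt, ⟨cpt, rfl⟩, fun h => ?_, m23_quot, ?_⟩
  · have := h.map GG.subtype
    rw [show GG.subtype (TG o0) = lam from T_o0] at this
    exact (commute_lam_iff cpt).1 this _ rfl
  set L := Subgroup.closure ({y : ↥GG | y ∈ DD ∧ y ≠ TG o0 ∧ Commute (TG o0) y} ∩
    {y : ↥GG | y ∈ DD ∧ y ≠ TG cpt ∧ Commute (TG cpt) y}) with hL
  obtain ⟨ε⟩ := nonempty_Lh
  let η : ↥L ≃* ↥HB :=
    ((MulEquiv.subgroupCongr (hL.trans common_group)).trans (Lh.equivMapOfInjective incG incG_injective).symm).trans ε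
  have hcen : Subgroup.center ↥L = ⊥ := center_bot_map η.symm center_HB
  let ρ : ↥L ⧸ Subgroup.center ↥L ≃* ↥HB :=
    ((QuotientGroup.quotientMulEquivOfEq hcen).trans QuotientGroup.quotientBot).trans η
  let σ : ↥L ⧸ Subgroup.center ↥L →* Equiv.Perm (Fin 3) := rhoB.comp ρ.toMonoidHom
  have hσ : Function.Surjective σ := M23U.Triality.rhoB_surj.comp ρ.surjective
  refine ⟨σ.ker, inferInstance, ?_, ⟨QuotientGroup.quotientKerEquivOfSurjective σ hσ⟩⟩
  obtain ⟨f⟩ := M23U.Triality.nb_spec.1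
  have hk : σ.ker.map ρ.toMonoidHom = rhoB.ker := by
    rw [show σ.ker = rhoB.ker.comap ρ.toMonoidHom from (MonoidHom.comap_ker _ _).symm,
      Subgroup.map_comap_eq_self_of_surjective ρ.surjective]
  exact ⟨((σ.ker.equivMapOfInjective ρ.toMonoidHom ρ.injective).trans
    (MulEquiv.subgroupCongr (hk.trans M23U.Triality.rhoB_ker))).trans
    ((Subgroup.subgroupOfEquivOfLe (M23U.Triality.NB_le.trans M23U.Triality.KB_le)).trans f)⟩

theorem block_all (S : Set Xp) (hS : ∀ a ∈ GG, ∀ x ∈ S, a x ∈ S → ∀ y ∈ S, a y ∈ S) (h0 : o0 ∈ S) {z : Xp}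
    (hz : z ∈ S) (hne : z ≠ o0) : ∀ x, x ∈ S := by
  have hst : ∀ h, ∀ y ∈ S, inc h y ∈ S := fun h => hS _ (inc_GG h) o0 h0 (by rw [inc_o0]; exact h0)
  have hA : ∀ i, pA i ∈ S → ∀ j, pA j ∈ S := by
    intro i hi j
    obtain ⟨k, hk⟩ := orbit_cpt i
    obtain ⟨l, hl⟩ := orbit_cpt j
    have := hst (l * k⁻¹) _ hi
    rwa [← hk, ← Equiv.Perm.mul_apply, ← map_mul, inv_mul_cancel_right, hl] at this
  have hP : ∀ p, pP p ∈ S → ∀ q, pP q ∈ S := fun p hp q => by
    obtain ⟨h, e⟩ := pP_orbit p q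
    exact e ▸ hst h _ hp
  suffices h : (∀ p, pP p ∈ S) ∧ ∀ i, pA i ∈ S by
    intro x
    obtain rfl | ⟨p, rfl⟩ | ⟨i, rfl⟩ := kinds x
    exacts [h0, h.1 p, h.2 i]
  obtain rfl | ⟨p, rfl⟩ | ⟨i, rfl⟩ := kinds z
  · exact absurd rfl hne
  · have h1 := hP p hz
    have hk : kap (pP (pt 0)) ∈ S := by rw [kap_inW (inW_pt (by norm_num))]; exact h1 _
    have h2 := hS _ kap_GG _ (h1 _) hk o0 h0
    rw [kap_o0] at h2
    exact ⟨h1, hA _ h2⟩
  · have h1 := hA i hz
    have hk : kap cpt ∈ S := by rw [kap_cpt]; exact h1 _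
    obtain ⟨j, hj⟩ := inc_apart (tH pOut) ⟨0, by rw [nA_eq]; norm_num⟩
    have h2 : kap (pP pOut) ∈ S := by
      rw [(kap_out pOut p0_out).1]
      exact (hj ▸ h1 j : inc (tH pOut) _ ∈ S)
    have h3 := hS _ kap_GG _ (h1 _) hk _ h2
    rw [kap_kap] at h3
    exact ⟨hP _ h3, h1⟩

theorem primitive : IsPrimitiveUnderConj DD := by
  refine ⟨?_, ⟨TG o0, ⟨o0, rfl⟩, TG cpt, ⟨cpt, rfl⟩, fun e => pA_ne_o0 _ (TG_injective e).symm⟩, fun B hB hblk => ?_⟩
  · rintro _ ⟨x, rfl⟩ _ ⟨y, rfl⟩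
    obtain ⟨a, ha, e⟩ := transitive x y
    exact ⟨⟨a, ha⟩, e ▸ TG_conj ⟨a, ha⟩ x⟩
  refine or_iff_not_imp_left.2 fun hns => Set.Subset.antisymm hB ?_
  obtain ⟨_, hu, _, hv, huv⟩ := Set.not_subsingleton_iff.1 hns
  obtain ⟨u, rfl⟩ := hB hu
  obtain ⟨v, rfl⟩ := hB hv
  obtain ⟨c, hc, ec⟩ := from_zero u
  set S : Set Xp := {x | TG (c x) ∈ B}
  have hS : ∀ a ∈ GG, ∀ x ∈ S, a x ∈ S → ∀ y ∈ S, a y ∈ S := by
    intro a ha x hx hax y hy
    let b : ↥GG := ⟨c * a * c⁻¹, mul_mem (mul_mem hc ha) (inv_mem hc)⟩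
    have e : ∀ w, b * TG (c w) * b⁻¹ = TG (c (a w)) := fun w => by
      rw [TG_conj]; simp [b]
    rcases hblk b with h | h
    · have : b * TG (c y) * b⁻¹ ∈ B := h ▸ ⟨_, hy, rfl⟩
      rwa [e] at this
    · exact absurd (show TG (c (a x)) ∈ B from hax) (Set.disjoint_left.1 h ⟨_, hx, e x⟩)
  have h0 : o0 ∈ S := by show TG (c o0) ∈ B; rw [ec]; exact hu
  rintro _ ⟨x, rfl⟩
  have := block_all S hS h0 (z := c⁻¹ v) (show TG (c (c⁻¹ v)) ∈ B by simpa using hv) (fun e => huv ?_) (c⁻¹ x)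
  · simpa [S] using this
  · rw [← ec, ← e]; simp

theorem exists_m22 : ∃ (X : Type) (_ : Group X) (_ : Finite X) (E : Set X),
    IsThreeTranspositionClass E ∧ IsPrimitiveUnderConj E ∧ IsOfTypeM22 X E := by
  haveI := Fi22.finite
  haveI := Fi22.isSimple
  have hc : IsThreeTranspositionClass M22U.classD := by
    have := Fi22.isThreeTranspositionClass
    rwa [M22U.tz_eq] at this
  have hw : ∃ a ∈ M22U.classD, ∃ b ∈ M22U.classD, a ≠ b ∧ Commute a b := by
    have h : M22U.dpt (M22U.TypeOf.pt 0) ∈ M22U.TypeOf.perp0 ∩ M22U.TypeOf.perp1 :=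
      M22U.TypeOf.common_eq ▸ ⟨0, rfl⟩
    exact ⟨_, mem_conjugatesOf_self, _, h.1.1, h.1.2.1.symm, h.1.2.2⟩
  have hcomm : commutator Spor.Fi22 = ⊤ :=
    (IsSimpleGroup.eq_bot_or_eq_top_of_normal _ inferInstance).resolve_left fun h => by
      rw [commutator_def, Subgroup.commutator_eq_bot_iff_le_centralizer] at h
      exact M22U.TypeOf.g_zero_one (Subgroup.mem_centralizer_iff.1 (h (Subgroup.mem_top (Fi22.g 1))) _
        (Subgroup.mem_top (Fi22.g 0)))
  refine ⟨Spor.Fi22, inferInstance, inferInstance, M22U.classD, hc, ?_, M22U.TypeOf.isOfTypeM22⟩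
  refine (Cfsg.Agent.Spor.FischerStr.primitive_iff hc M22U.TypeOf.center_bot hw).1.1 ?_
  rw [hcomm]
  exact IsSimpleGroup.isSimpleGroup_of_surjective
    (Subgroup.topEquiv : (⊤ : Subgroup Spor.Fi22) ≃* Spor.Fi22).symm.toMonoidHom Subgroup.topEquiv.symm.surjective

theorem exists_m23 : ∃ (X : Type) (_ : Group X) (_ : Finite X) (E : Set X),
    IsThreeTranspositionClass E ∧ IsPrimitiveUnderConj E ∧ IsOfTypeM23 X E := by
  haveI := Fi23.isSimple
  have hc : IsThreeTranspositionClass classD := by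
    rw [M23U.TypeOf.classD_eq]
    exact Fi23.isThreeTranspositionClass
  have hw : ∃ a ∈ classD, ∃ b ∈ classD, a ≠ b ∧ Commute a b := by
    have h : dp (M23U.TypeOf.pt 0) ∈ M23U.TypeOf.common := M23U.TypeOf.common_eq ▸ ⟨0, rfl⟩
    exact ⟨_, mem_conjugatesOf_self, _, h.1.1, h.1.2.1.symm, h.1.2.2⟩
  have hcomm : commutator Spor.Fi23 = ⊤ :=
    (IsSimpleGroup.eq_bot_or_eq_top_of_normal _ inferInstance).resolve_left fun h => by
      rw [commutator_def, Subgroup.commutator_eq_bot_iff_le_centralizer] at h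
      exact M23U.TypeOf.g_zero_one (Subgroup.mem_centralizer_iff.1 (h (Subgroup.mem_top (g 1))) _
        (Subgroup.mem_top (g 0)))
  refine ⟨Spor.Fi23, inferInstance, inferInstance, classD, hc, ?_, M23U.TypeOf.isOfTypeM23⟩
  refine (Cfsg.Agent.Spor.FischerStr.primitive_iff hc M23U.TypeOf.center_bot hw).1.1 ?_
  rw [hcomm]
  exact IsSimpleGroup.isSimpleGroup_of_surjective
    (Subgroup.topEquiv : (⊤ : Subgroup Spor.Fi23) ≃* Spor.Fi23).symm.toMonoidHom Subgroup.topEquiv.symm.surjective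

end Cfsg.Agent.Fus.Fi24Model
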