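import Cfsg.Agent.Lib.Fus.Fi24Model.Chk.W0
import Cfsg.Agent.Lib.Fus.Fi24Model.Chk.W1
import Cfsg.Agent.Lib.Fus.Fi24Model.Chk.W2
import Cfsg.Agent.Lib.Fus.Fi24Model.Chk.W3
import Cfsg.Agent.Lib.Fus.Fi24Model.Chk.W4
import Cfsg.Agent.Lib.Fus.Fi24Model.Chk.W5
import Cfsg.Agent.Lib.Fus.Fi24Model.Chk.W6
import Cfsg.Agent.Lib.Fus.Fi24Model.Chk.W7
import Cfsg.Agent.Lib.Fus.Fi24Model.Chk.W8
import Cfsg.Agent.Lib.Fus.Fi24Model.Chk.W9
import Cfsg.Agent.Lib.Fus.Fi24Model.Chk.W10
import Cfsg.Agent.Lib.Fus.Fi24Model.Chk.W11
import Cfsg.Agent.Lib.Fus.Fi24Model.Chk.W12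
import Cfsg.Agent.Lib.Fus.Fi24Model.Chk.W13
import Cfsg.Agent.Lib.Fus.Fi24Model.Chk.W14
import Cfsg.Agent.Lib.Fus.Fi24Model.Chk.W15
import Cfsg.Agent.Lib.Fus.Fi24Model.Chk.W16
import Cfsg.Agent.Lib.Fus.Fi24Model.Chk.W17
import Cfsg.Agent.Lib.Fus.Fi24Model.Chk.W18
import Cfsg.Agent.Lib.Fus.Fi24Model.Chk.W19
import Cfsg.Agent.Lib.Fus.Fi24Model.Chk.W20
import Cfsg.Agent.Lib.Fus.Fi24Model.Chk.W21
import Cfsg.Agent.Lib.Fus.Fi24Model.Chk.W22
import Cfsg.Agent.Lib.Fus.Fi24Model.Chk.K0
import Cfsg.Agent.Lib.Fus.Fi24Model.Chk.K1
import Cfsg.Agent.Lib.Fus.Fi24Model.Chk.K2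
import Cfsg.Agent.Lib.Fus.Fi24Model.Chk.K3
import Cfsg.Agent.Lib.Fus.Fi24Model.Chk.K4
import Cfsg.Agent.Lib.Fus.Fi24Model.Chk.K5
import Cfsg.Agent.Lib.Fus.Fi24Model.Chk.K6
import Cfsg.Agent.Lib.Fus.Fi24Model.Chk.K7
import Cfsg.Agent.Lib.Fus.Fi24Model.Chk.K8
import Cfsg.Agent.Lib.Fus.Fi24Model.Chk.K9
import Cfsg.Agent.Lib.Fus.Fi24Model.Chk.A0
import Cfsg.Agent.Lib.Fus.Fi24Model.Chk.A1
import Cfsg.Agent.Lib.Fus.Fi24Model.Chk.TA0
import Cfsg.Agent.Lib.Fus.Fi24Model.Chk.TA1
import Cfsg.Agent.Lib.Fus.Fi24Model.Chk.TP0

/-! Checks for the model of Fi24 on 306936 points. -/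

set_option autoImplicit false
set_option maxRecDepth 100000
set_option maxHeartbeats 4000000
set_option Elab.async false

open Cfsg.Agent.Spor.Cos

namespace Cfsg.Agent.Fus.Fi24Model

theorem chkW_all : ∀ i < 137632, chkW i = true :=
  of_blocks (size := 1024) (b := 135) (by decide) (by decide) fun j hj => by
    interval_cases j
    · exact chkW_blk0
    · exact chkW_blk1
    · exact chkW_blk2
    · exact chkW_blk3
    · exact chkW_blk4
    · exact chkW_blk5
    · exact chkW_blk6
    · exact chkW_blk7
    · exact chkW_blk8
    · exact chkW_blk9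
    · exact chkW_blk10
    · exact chkW_blk11
    · exact chkW_blk12
    · exact chkW_blk13
    · exact chkW_blk14
    · exact chkW_blk15
    · exact chkW_blk16
    · exact chkW_blk17
    · exact chkW_blk18
    · exact chkW_blk19
    · exact chkW_blk20
    · exact chkW_blk21
    · exact chkW_blk22
    · exact chkW_blk23
    · exact chkW_blk24
    · exact chkW_blk25
    · exact chkW_blk26
    · exact chkW_blk27
    · exact chkW_blk28
    · exact chkW_blk29
    · exact chkW_blk30
    · exact chkW_blk31
    · exact chkW_blk32
    · exact chkW_blk33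
    · exact chkW_blk34
    · exact chkW_blk35
    · exact chkW_blk36
    · exact chkW_blk37
    · exact chkW_blk38
    · exact chkW_blk39
    · exact chkW_blk40
    · exact chkW_blk41
    · exact chkW_blk42
    · exact chkW_blk43
    · exact chkW_blk44
    · exact chkW_blk45
    · exact chkW_blk46
    · exact chkW_blk47
    · exact chkW_blk48
    · exact chkW_blk49
    · exact chkW_blk50
    · exact chkW_blk51
    · exact chkW_blk52
    · exact chkW_blk53
    · exact chkW_blk54
    · exact chkW_blk55
    · exact chkW_blk56
    · exact chkW_blk57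
    · exact chkW_blk58
    · exact chkW_blk59
    · exact chkW_blk60
    · exact chkW_blk61
    · exact chkW_blk62
    · exact chkW_blk63
    · exact chkW_blk64
    · exact chkW_blk65
    · exact chkW_blk66
    · exact chkW_blk67
    · exact chkW_blk68
    · exact chkW_blk69
    · exact chkW_blk70
    · exact chkW_blk71
    · exact chkW_blk72
    · exact chkW_blk73
    · exact chkW_blk74
    · exact chkW_blk75
    · exact chkW_blk76
    · exact chkW_blk77
    · exact chkW_blk78
    · exact chkW_blk79
    · exact chkW_blk80
    · exact chkW_blk81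
    · exact chkW_blk82
    · exact chkW_blk83
    · exact chkW_blk84
    · exact chkW_blk85
    · exact chkW_blk86
    · exact chkW_blk87
    · exact chkW_blk88
    · exact chkW_blk89
    · exact chkW_blk90
    · exact chkW_blk91
    · exact chkW_blk92
    · exact chkW_blk93
    · exact chkW_blk94
    · exact chkW_blk95
    · exact chkW_blk96
    · exact chkW_blk97
    · exact chkW_blk98
    · exact chkW_blk99
    · exact chkW_blk100
    · exact chkW_blk101
    · exact chkW_blk102
    · exact chkW_blk103
    · exact chkW_blk104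
    · exact chkW_blk105
    · exact chkW_blk106
    · exact chkW_blk107
    · exact chkW_blk108
    · exact chkW_blk109
    · exact chkW_blk110
    · exact chkW_blk111
    · exact chkW_blk112
    · exact chkW_blk113
    · exact chkW_blk114
    · exact chkW_blk115
    · exact chkW_blk116
    · exact chkW_blk117
    · exact chkW_blk118
    · exact chkW_blk119
    · exact chkW_blk120
    · exact chkW_blk121
    · exact chkW_blk122
    · exact chkW_blk123
    · exact chkW_blk124
    · exact chkW_blk125
    · exact chkW_blk126
    · exact chkW_blk127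
    · exact chkW_blk128
    · exact chkW_blk129
    · exact chkW_blk130
    · exact chkW_blk131
    · exact chkW_blk132
    · exact chkW_blk133
    · exact chkW_blk134

theorem chkK_all : ∀ i < 306936, chkK i = true :=
  of_blocks (size := 4096) (b := 75) (by decide) (by decide) fun j hj => by
    interval_cases j
    · exact chkK_blk0
    · exact chkK_blk1
    · exact chkK_blk2
    · exact chkK_blk3
    · exact chkK_blk4
    · exact chkK_blk5
    · exact chkK_blk6
    · exact chkK_blk7
    · exact chkK_blk8
    · exact chkK_blk9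
    · exact chkK_blk10
    · exact chkK_blk11
    · exact chkK_blk12
    · exact chkK_blk13
    · exact chkK_blk14
    · exact chkK_blk15
    · exact chkK_blk16
    · exact chkK_blk17
    · exact chkK_blk18
    · exact chkK_blk19
    · exact chkK_blk20
    · exact chkK_blk21
    · exact chkK_blk22
    · exact chkK_blk23
    · exact chkK_blk24
    · exact chkK_blk25
    · exact chkK_blk26
    · exact chkK_blk27
    · exact chkK_blk28
    · exact chkK_blk29
    · exact chkK_blk30
    · exact chkK_blk31
    · exact chkK_blk32
    · exact chkK_blk33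
    · exact chkK_blk34
    · exact chkK_blk35
    · exact chkK_blk36
    · exact chkK_blk37
    · exact chkK_blk38
    · exact chkK_blk39
    · exact chkK_blk40
    · exact chkK_blk41
    · exact chkK_blk42
    · exact chkK_blk43
    · exact chkK_blk44
    · exact chkK_blk45
    · exact chkK_blk46
    · exact chkK_blk47
    · exact chkK_blk48
    · exact chkK_blk49
    · exact chkK_blk50
    · exact chkK_blk51
    · exact chkK_blk52
    · exact chkK_blk53
    · exact chkK_blk54
    · exact chkK_blk55
    · exact chkK_blk56
    · exact chkK_blk57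
    · exact chkK_blk58
    · exact chkK_blk59
    · exact chkK_blk60
    · exact chkK_blk61
    · exact chkK_blk62
    · exact chkK_blk63
    · exact chkK_blk64
    · exact chkK_blk65
    · exact chkK_blk66
    · exact chkK_blk67
    · exact chkK_blk68
    · exact chkK_blk69
    · exact chkK_blk70
    · exact chkK_blk71
    · exact chkK_blk72
    · exact chkK_blk73
    · exact chkK_blk74

theorem chkA_all : ∀ i < 137632, chkA i = true :=
  of_blocks (size := 4096) (b := 34) (by decide) (by decide) fun j hj => by
    interval_cases j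
    · exact chkA_blk0
    · exact chkA_blk1
    · exact chkA_blk2
    · exact chkA_blk3
    · exact chkA_blk4
    · exact chkA_blk5
    · exact chkA_blk6
    · exact chkA_blk7
    · exact chkA_blk8
    · exact chkA_blk9
    · exact chkA_blk10
    · exact chkA_blk11
    · exact chkA_blk12
    · exact chkA_blk13
    · exact chkA_blk14
    · exact chkA_blk15
    · exact chkA_blk16
    · exact chkA_blk17
    · exact chkA_blk18
    · exact chkA_blk19
    · exact chkA_blk20
    · exact chkA_blk21
    · exact chkA_blk22
    · exact chkA_blk23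
    · exact chkA_blk24
    · exact chkA_blk25
    · exact chkA_blk26
    · exact chkA_blk27
    · exact chkA_blk28
    · exact chkA_blk29
    · exact chkA_blk30
    · exact chkA_blk31
    · exact chkA_blk32
    · exact chkA_blk33

theorem chkTA_all : ∀ i < 275264, chkTA i = true :=
  of_blocks (size := 4096) (b := 68) (by decide) (by decide) fun j hj => by
    interval_cases j
    · exact chkTA_blk0
    · exact chkTA_blk1
    · exact chkTA_blk2
    · exact chkTA_blk3
    · exact chkTA_blk4
    · exact chkTA_blk5
    · exact chkTA_blk6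
    · exact chkTA_blk7
    · exact chkTA_blk8
    · exact chkTA_blk9
    · exact chkTA_blk10
    · exact chkTA_blk11
    · exact chkTA_blk12
    · exact chkTA_blk13
    · exact chkTA_blk14
    · exact chkTA_blk15
    · exact chkTA_blk16
    · exact chkTA_blk17
    · exact chkTA_blk18
    · exact chkTA_blk19
    · exact chkTA_blk20
    · exact chkTA_blk21
    · exact chkTA_blk22
    · exact chkTA_blk23
    · exact chkTA_blk24
    · exact chkTA_blk25
    · exact chkTA_blk26
    · exact chkTA_blk27
    · exact chkTA_blk28
    · exact chkTA_blk29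
    · exact chkTA_blk30
    · exact chkTA_blk31
    · exact chkTA_blk32
    · exact chkTA_blk33
    · exact chkTA_blk34
    · exact chkTA_blk35
    · exact chkTA_blk36
    · exact chkTA_blk37
    · exact chkTA_blk38
    · exact chkTA_blk39
    · exact chkTA_blk40
    · exact chkTA_blk41
    · exact chkTA_blk42
    · exact chkTA_blk43
    · exact chkTA_blk44
    · exact chkTA_blk45
    · exact chkTA_blk46
    · exact chkTA_blk47
    · exact chkTA_blk48
    · exact chkTA_blk49
    · exact chkTA_blk50
    · exact chkTA_blk51
    · exact chkTA_blk52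
    · exact chkTA_blk53
    · exact chkTA_blk54
    · exact chkTA_blk55
    · exact chkTA_blk56
    · exact chkTA_blk57
    · exact chkTA_blk58
    · exact chkTA_blk59
    · exact chkTA_blk60
    · exact chkTA_blk61
    · exact chkTA_blk62
    · exact chkTA_blk63
    · exact chkTA_blk64
    · exact chkTA_blk65
    · exact chkTA_blk66
    · exact chkTA_blk67

theorem chkTP_all : ∀ i < 31671, chkTP i = true :=
  of_blocks (size := 4096) (b := 8) (by decide) (by decide) fun j hj => by
    interval_cases j
    · exact chkTP_blk0
    · exact chkTP_blk1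
    · exact chkTP_blk2
    · exact chkTP_blk3
    · exact chkTP_blk4
    · exact chkTP_blk5
    · exact chkTP_blk6
    · exact chkTP_blk7

end Cfsg.Agent.Fus.Fi24Model
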