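import Cfsg.Agent.Lib.Fus.Fi24Model.Data.AT0
import Cfsg.Agent.Lib.Fus.Fi24Model.Data.AT1
import Cfsg.Agent.Lib.Fus.Fi24Model.Data.AT2
import Cfsg.Agent.Lib.Fus.Fi24Model.Data.AT3
import Cfsg.Agent.Lib.Fus.Fi24Model.Data.AT4
import Cfsg.Agent.Lib.Fus.Fi24Model.Data.AT5
import Cfsg.Agent.Lib.Fus.Fi24Model.Data.AT6
import Cfsg.Agent.Lib.Fus.Fi24Model.Data.AT7
import Cfsg.Agent.Lib.Fus.Fi24Model.Data.AT8
import Cfsg.Agent.Lib.Fus.Fi24Model.Data.AT9
import Cfsg.Agent.Lib.Fus.Fi24Model.Data.AT10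
import Cfsg.Agent.Lib.Fus.Fi24Model.Data.AT11
import Cfsg.Agent.Lib.Fus.Fi24Model.Data.AT12
import Cfsg.Agent.Lib.Fus.Fi24Model.Data.AT13
import Cfsg.Agent.Lib.Fus.Fi24Model.Data.AT14
import Cfsg.Agent.Lib.Fus.Fi24Model.Data.AT15
import Cfsg.Agent.Lib.Fus.Fi24Model.Data.AT16
import Cfsg.Agent.Lib.Fus.Fi24Model.Data.AT17
import Cfsg.Agent.Lib.Fus.Fi24Model.Data.AT18
import Cfsg.Agent.Lib.Fus.Fi24Model.Data.AT19
import Cfsg.Agent.Lib.Fus.Fi24Model.Data.KT0
import Cfsg.Agent.Lib.Fus.Fi24Model.Data.KT1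
import Cfsg.Agent.Lib.Fus.Fi24Model.Data.KT2
import Cfsg.Agent.Lib.Fus.Fi24Model.Data.KT3
import Cfsg.Agent.Lib.Fus.Fi24Model.Data.KT4
import Cfsg.Agent.Lib.Fus.Fi24Model.Data.KT5
import Cfsg.Agent.Lib.Fus.Fi24Model.Data.DepT0
import Cfsg.Agent.Lib.Fus.Fi24Model.Data.DepT1
import Cfsg.Agent.Lib.Fus.Fi24Model.Data.DepT2
import Cfsg.Agent.Lib.Fus.Fi24Model.Data.DepT3
import Cfsg.Agent.Lib.Fus.Fi24Model.Data.DepP0

/-! Tables of the model of Fi24 on 306936 points. -/

set_option autoImplicit false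
set_option maxRecDepth 100000

namespace Cfsg.Agent.Fus.Fi24Model

/-- images of the apart points under the generators. -/
def aT : Spor.Cos.Tab := ⟨(.node 8600 (.node 4300 (.node 2100 (.node 1000 (.node 500 (.node 200 (.node 100 aTB0 aTB1) (.node 300 aTB2 (.node 400 aTB3 aTB4))) (.node 700 (.node 600 aTB5 aTB6) (.node 800 aTB7 (.node 900 aTB8 aTB9)))) (.node 1500 (.node 1200 (.node 1100 aTB10 aTB11) (.node 1300 aTB12 (.node 1400 aTB13 aTB14))) (.node 1800 (.node 1600 aTB15 (.node 1700 aTB16 aTB17)) (.node 1900 aTB18 (.node 2000 aTB19 aTB20))))) (.node 3200 (.node 2600 (.node 2300 (.node 2200 aTB21 aTB22) (.node 2400 aTB23 (.node 2500 aTB24 aTB25))) (.node 2900 (.node 2700 aTB26 (.node 2800 aTB27 aTB28)) (.node 3000 aTB29 (.node 3100 aTB30 aTB31)))) (.node 3700 (.node 3400 (.node 3300 aTB32 aTB33) (.node 3500 aTB34 (.node 3600 aTB35 aTB36))) (.node 4000 (.node 3800 aTB37 (.node 3900 aTB38 aTB39)) (.node 4100 aTB40 (.node 4200 aTB41 aTB42))))))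 (.node 6400 (.node 5300 (.node 4800 (.node 4500 (.node 4400 aTB43 aTB44) (.node 4600 aTB45 (.node 4700 aTB46 aTB47))) (.node 5000 (.node 4900 aTB48 aTB49) (.node 5100 aTB50 (.node 5200 aTB51 aTB52)))) (.node 5800 (.node 5500 (.node 5400 aTB53 aTB54) (.node 5600 aTB55 (.node 5700 aTB56 aTB57))) (.node 6100 (.node 5900 aTB58 (.node 6000 aTB59 aTB60)) (.node 6200 aTB61 (.node 6300 aTB62 aTB63))))) (.node 7500 (.node 6900 (.node 6600 (.node 6500 aTB64 aTB65) (.node 6700 aTB66 (.node 6800 aTB67 aTB68))) (.node 7200 (.node 7000 aTB69 (.node 7100 aTB70 aTB71)) (.node 7300 aTB72 (.node 7400 aTB73 aTB74)))) (.node 8000 (.node 7700 (.node 7600 aTB75 aTB76) (.node 7800 aTB77 (.node 7900 aTB78 aTB79))) (.node 8300 (.node 8100 aTB80 (.node 8200 aTB81 aTB82)) (.node 8400 aTB83 (.node 8500 aTB84 aTB85))))))) (.node 12900 (.node 10700 (.node 9600 (.node 9100 (.node 8800 (.node 8700 aTB86 aTB87) (.node 8900 aTB88 (.node 9000 aTB89 aTB90))) (.node 9300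 (.node 9200 aTB91 aTB92) (.node 9400 aTB93 (.node 9500 aTB94 aTB95)))) (.node 10100 (.node 9800 (.node 9700 aTB96 aTB97) (.node 9900 aTB98 (.node 10000 aTB99 aTB100))) (.node 10400 (.node 10200 aTB101 (.node 10300 aTB102 aTB103)) (.node 10500 aTB104 (.node 10600 aTB105 aTB106))))) (.node 11800 (.node 11200 (.node 10900 (.node 10800 aTB107 aTB108) (.node 11000 aTB109 (.node 11100 aTB110 aTB111))) (.node 11500 (.node 11300 aTB112 (.node 11400 aTB113 aTB114)) (.node 11600 aTB115 (.node 11700 aTB116 aTB117)))) (.node 12300 (.node 12000 (.node 11900 aTB118 aTB119) (.node 12100 aTB120 (.node 12200 aTB121 aTB122))) (.node 12600 (.node 12400 aTB123 (.node 12500 aTB124 aTB125)) (.node 12700 aTB126 (.node 12800 aTB127 aTB128)))))) (.node 15100 (.node 14000 (.node 13400 (.node 13100 (.node 13000 aTB129 aTB130) (.node 13200 aTB131 (.node 13300 aTB132 aTB133))) (.node 13700 (.node 13500 aTB134 (.node 13600 aTB135 aTB136)) (.node 13800 aTB137 (.node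 13900 aTB138 aTB139)))) (.node 14500 (.node 14200 (.node 14100 aTB140 aTB141) (.node 14300 aTB142 (.node 14400 aTB143 aTB144))) (.node 14800 (.node 14600 aTB145 (.node 14700 aTB146 aTB147)) (.node 14900 aTB148 (.node 15000 aTB149 aTB150))))) (.node 16200 (.node 15600 (.node 15300 (.node 15200 aTB151 aTB152) (.node 15400 aTB153 (.node 15500 aTB154 aTB155))) (.node 15900 (.node 15700 aTB156 (.node 15800 aTB157 aTB158)) (.node 16000 aTB159 (.node 16100 aTB160 aTB161)))) (.node 16700 (.node 16400 (.node 16300 aTB162 aTB163) (.node 16500 aTB164 (.node 16600 aTB165 aTB166))) (.node 17000 (.node 16800 aTB167 (.node 16900 aTB168 aTB169)) (.node 17100 aTB170 (.node 17200 aTB171 aTB172)))))))), 190, 3⟩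

/-- images of all points under the outer generator. -/
def kT : Spor.Cos.Tab := ⟨(.node 9500 (.node 4750 (.node 2250 (.node 1000 (.node 500 (.node 250 kTB0 kTB1) (.node 750 kTB2 kTB3)) (.node 1500 (.node 1250 kTB4 kTB5) (.node 1750 kTB6 (.node 2000 kTB7 kTB8)))) (.node 3500 (.node 2750 (.node 2500 kTB9 kTB10) (.node 3000 kTB11 (.node 3250 kTB12 kTB13))) (.node 4000 (.node 3750 kTB14 kTB15) (.node 4250 kTB16 (.node 4500 kTB17 kTB18))))) (.node 7000 (.node 5750 (.node 5250 (.node 5000 kTB19 kTB20) (.node 5500 kTB21 kTB22)) (.node 6250 (.node 6000 kTB23 kTB24) (.node 6500 kTB25 (.node 6750 kTB26 kTB27)))) (.node 8250 (.node 7500 (.node 7250 kTB28 kTB29) (.node 7750 kTB30 (.node 8000 kTB31 kTB32))) (.node 8750 (.node 8500 kTB33 kTB34) (.node 9000 kTB35 (.node 9250 kTB36 kTB37)))))) (.node 14250 (.node 11750 (.node 10500 (.node 10000 (.node 9750 kTB38 kTB39) (.node 10250 kTB40 kTB41)) (.node 11000 (.node 10750 kTB42 kTB43) (.node 11250 kTB44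 (.node 11500 kTB45 kTB46)))) (.node 13000 (.node 12250 (.node 12000 kTB47 kTB48) (.node 12500 kTB49 (.node 12750 kTB50 kTB51))) (.node 13500 (.node 13250 kTB52 kTB53) (.node 13750 kTB54 (.node 14000 kTB55 kTB56))))) (.node 16750 (.node 15500 (.node 14750 (.node 14500 kTB57 kTB58) (.node 15000 kTB59 (.node 15250 kTB60 kTB61))) (.node 16000 (.node 15750 kTB62 kTB63) (.node 16250 kTB64 (.node 16500 kTB65 kTB66)))) (.node 18000 (.node 17250 (.node 17000 kTB67 kTB68) (.node 17500 kTB69 (.node 17750 kTB70 kTB71))) (.node 18500 (.node 18250 kTB72 kTB73) (.node 18750 kTB74 (.node 19000 kTB75 kTB76))))))), 19, 4⟩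

/-- search forest of the apart points. -/
def depT : Spor.Cos.Tab := ⟨(.node 8800 (.node 4400 (.node 2000 (.node 800 (.node 400 depTB0 depTB1) (.node 1200 depTB2 (.node 1600 depTB3 depTB4))) (.node 3200 (.node 2400 depTB5 (.node 2800 depTB6 depTB7)) (.node 3600 depTB8 (.node 4000 depTB9 depTB10)))) (.node 6400 (.node 5200 (.node 4800 depTB11 depTB12) (.node 5600 depTB13 (.node 6000 depTB14 depTB15))) (.node 7600 (.node 6800 depTB16 (.node 7200 depTB17 depTB18)) (.node 8000 depTB19 (.node 8400 depTB20 depTB21))))) (.node 13200 (.node 10800 (.node 9600 (.node 9200 depTB22 depTB23) (.node 10000 depTB24 (.node 10400 depTB25 depTB26))) (.node 12000 (.node 11200 depTB27 (.node 11600 depTB28 depTB29)) (.node 12400 depTB30 (.node 12800 depTB31 depTB32)))) (.node 15200 (.node 14000 (.node 13600 depTB33 depTB34) (.node 14400 depTB35 (.node 14800 depTB36 depTB37))) (.node 16400 (.node 15600 depTB38 (.node 16000 depTB39 depTB40)) (.node 16800 depTB41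 (.node 17200 depTB42 depTB43)))))), 12, 4⟩

/-- search tree of the outer perpendicular points. -/
def depP : Spor.Cos.Tab := ⟨(.node 800 (.node 400 depPB0 depPB1) (.node 1200 depPB2 (.node 1600 depPB3 depPB4))), 12, 4⟩

end Cfsg.Agent.Fus.Fi24Model
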