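import Cfsg.Agent.Lib.Fus.Fi24Model.Data
import Cfsg.Agent.Lib.Fus.M23U.Triality.Checks
import Cfsg.Agent.Lib.Spor.Cos.Fi23.Words

/-!
The maps of the model of Fi24 on 306936 points: a point, its 31671 neighbours, and 275264 points apart
from it, the last in 137632 pairs `2j, 2j + 1` swapped by the transposition of the first point.
-/

set_option autoImplicit false

namespace Cfsg.Agent.Fus.Fi24Model

open Cfsg.Agent.Spor.Cos

/-- The number of points apart. -/
def nA : ℕ := 275264

/-- The number of points. -/
def M : ℕ := 306936

/-- The first index of a point apart. -/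
def A0 : ℕ := 31672

/-- The image of an apart point under a generator. -/
noncomputable def imA (s i : ℕ) : ℕ :=
  Nat.xor ((aT.at (i / 2) >>> (19 * s)) % 524288) (i % 2)

/-- The image of an apart point under a generator of Fi23. -/
noncomputable def eA (s i : ℕ) : ℕ := Nat.xor (imA s i) 1

/-- Apply a word in the generators of Fi23 to an apart point, its last letter first. -/
noncomputable def goA (w : List ℕ) (i : ℕ) : ℕ :=
  List.rec (motive := fun _ => ℕ) i (fun s _ r => force r fun q => eA s q) w

/-- Apply a choice by the kind of the point. -/
noncomputable def byKind (x : ℕ) (z : ℕ) (p a : ℕ → ℕ) : ℕ :=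
  bif Nat.beq x 0 then z else bif Nat.blt x A0 then force (x - 1) p else force (x - A0) a

/-- The members of the apart node. -/
noncomputable def mimN (s x : ℕ) : ℕ :=
  byKind x 0 (fun p => 1 + Fi23.actA.im p s) (fun i => A0 + imA s i)

/-- The transposition of the first point. -/
noncomputable def limN (x : ℕ) : ℕ := byKind x 0 (fun p => 1 + p) (fun i => A0 + Nat.xor i 1)

/-- The outer generator. -/
noncomputable def kimN (x : ℕ) : ℕ := kT.at x

/-- The first neighbour outside the common ones. -/
def p0 : ℕ := 31670

/-- Another neighbour outside the common ones. -/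
def q1 : ℕ := 173

/-- The apart point of the first outside neighbour. -/
def rk : ℕ := 275263

/-- The root of the last orbit. -/
def rz : ℕ := 192899

/-- Membership in the neighbours common with the first apart point. -/
noncomputable def inW (p : ℕ) : Bool :=
  force (M23U.Triality.invT.at p) fun j => Nat.blt j 3240 && Nat.beq (M23U.Triality.posT.at j) p

/-- The check of an apart row: range and involution. -/
noncomputable def chkA (j : ℕ) : Bool :=
  (List.range 10).all fun s => force (imA s (2 * j)) fun v => Nat.blt v nA && Nat.beq (imA s v) (2 * j)

/-- The relations of Fi23 at a pair. -/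
noncomputable def chkW (j : ℕ) : Bool := Fi23.words.all fun w => Nat.beq (goA w (2 * j)) (2 * j)

/-- The outer generator at a point: an involution, braiding with two generators, commuting with nine. -/
noncomputable def chkK (x : ℕ) : Bool :=
  force (kimN x) fun y => Nat.blt y M && Nat.beq (kimN y) x &&
    (force (limN y) fun a => force (kimN a) fun b => force (limN b) fun c => force (kimN c) fun d =>
      Nat.beq (limN d) x) &&
    (force (mimN 0 y) fun a => force (kimN a) fun b => force (mimN 0 b) fun c => force (kimN c) fun d =>
      Nat.beq (mimN 0 d) x) &&
    ((List.range 9).all fun s => Nat.beq (kimN (mimN (s + 1) x)) (mimN (s + 1) y))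

/-- An apart point descends to one of five roots and, bar two, is moved. -/
noncomputable def chkTA (i : ℕ) : Bool :=
  Nat.blt i 2 || force (depT.at i % 16) fun s => Nat.blt 0 s && Nat.blt s 10 && force (imA s i) fun v =>
    (Nat.beq i rk || Nat.beq i (Nat.xor rk 1) || Nat.beq i rz || Nat.blt (depT.at v / 16) (depT.at i / 16)) &&
      cond (Nat.beq v i) false true

/-- A neighbour is common, or descends to the first outside one. -/
noncomputable def chkTP (p : ℕ) : Bool :=
  bif inW p then Nat.beq (kimN (1 + p)) (1 + p) else
    Nat.beq p p0 || force (depP.at p % 16) fun s => Nat.blt 0 s && Nat.blt s 10 &&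
      force (Fi23.actA.im p s) fun v => cond (inW v) false true && Nat.blt (depP.at v / 16) (depP.at p / 16)

end Cfsg.Agent.Fus.Fi24Model
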