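import Cfsg.Agent.Lib.Fus.Fi24Model.Types
import Cfsg.Agent.Lib.Block.FischerTypes.M24Group

/-! Subgroups and orders in the model of Fi24. -/

set_option autoImplicit false
set_option linter.style.haveILetI false
set_option maxRecDepth 100000

open Cfsg
open Cfsg.Agent.Spor.Cos

namespace Cfsg.Agent.Fus.Fi24Model

attribute [local instance] Cfsg.Agent.Spor.Cos.Fi23.finite
attribute [local irreducible] kimN limN mimN imA permOf

/-- Fi23 in the group. -/
noncomputable def emb23 : Spor.Fi23 →* ↥GG := incG.comp (MonoidHom.inl Spor.Fi23 (Multiplicative (ZMod 2)))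

theorem emb23_injective : Function.Injective emb23 := fun a b h =>
  congrArg Prod.fst (incG_injective (show incG (a, 1) = incG (b, 1) from h))

theorem commutator_fi23 : commutator Spor.Fi23 = ⊤ := by
  haveI := Fi23.isSimple
  exact (IsSimpleGroup.eq_bot_or_eq_top_of_normal _ inferInstance).resolve_left fun h => by
    rw [commutator_def, Subgroup.commutator_eq_bot_iff_le_centralizer] at h
    exact M23U.TypeOf.g_zero_one (Subgroup.mem_centralizer_iff.1 (h (Subgroup.mem_top (Fi23.g 1))) _
      (Subgroup.mem_top (Fi23.g 0)))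

theorem isFi23_of_equiv {K : Type} [Group K] (e : Spor.Fi23 ≃* K) : IsFi23 K := by
  haveI := Fi23.isSimple
  haveI : Nontrivial K := e.toEquiv.symm.nontrivial
  exact ⟨IsSimpleGroup.isSimpleGroup_of_surjective e.toMonoidHom e.surjective,
    (Nat.card_congr e.toEquiv).symm.trans Fi23.card_eq⟩

theorem centralizer_spec {d : ↥GG} (hd : d ∈ DD) : Nat.card (Subgroup.centralizer ({d} : Set ↥GG)) =
    2 * 4089470473293004800 ∧ ∃ K : Subgroup ↥GG, K ≤ Subgroup.centralizer ({d} : Set ↥GG) ∧ IsFi23 K := by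
  obtain ⟨x, rfl⟩ := hd
  obtain ⟨a, ha, rfl⟩ := from_zero x
  have he : Subgroup.centralizer ({TG (a o0)} : Set ↥GG) =
      (Subgroup.centralizer ({TG o0} : Set ↥GG)).map (MulAut.conj (⟨a, ha⟩ : ↥GG)).toMonoidHom := by
    rw [← show MulAut.conj (⟨a, ha⟩ : ↥GG) (TG o0) = TG (a o0) from TG_conj ⟨a, ha⟩ o0]
    ext z
    rw [Subgroup.mem_map_equiv, Subgroup.mem_centralizer_singleton_iff, Subgroup.mem_centralizer_singleton_iff,
      ← (MulAut.conj (⟨a, ha⟩ : ↥GG)).symm.injective.eq_iff, map_mul, map_mul, MulEquiv.symm_apply_apply]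
  have hr : Subgroup.centralizer ({TG o0} : Set ↥GG) = incG.range := by
    rw [centralizer_TG_zero]
    ext z
    exact ⟨fun ⟨k, hk⟩ => ⟨k, Subtype.ext hk⟩, fun ⟨k, hk⟩ => ⟨k, congrArg Subtype.val hk⟩⟩
  refine ⟨?_, (emb23.range).map (MulAut.conj (⟨a, ha⟩ : ↥GG)).toMonoidHom, ?_, ?_⟩
  · rw [he, Subgroup.card_map_of_injective (MulEquiv.injective _), hr,
      ← Nat.card_congr (MonoidHom.ofInjective incG_injective).toEquiv, card_HH]
  · rw [he, hr]
    refine Subgroup.map_mono ?_
    rintro _ ⟨y, rfl⟩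
    exact ⟨_, rfl⟩
  · exact isFi23_of_equiv ((MonoidHom.ofInjective emb23_injective).trans
      ((emb23.range).equivMapOfInjective _ (MulEquiv.injective _)))

theorem emb23_commutator : emb23.range ≤ commutator ↥GG := by
  rw [MonoidHom.range_eq_map, ← commutator_fi23, commutator_def, Subgroup.map_commutator, commutator_def]
  exact Subgroup.commutator_mono le_top le_top

theorem commutator_spec : (commutator ↥GG).index = 2 ∧ IsFi24' ↥(commutator ↥GG) := by
  have B := Block.FischerTypes.M24.base isGroup primitive isOfTypeM24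
  have hne : DD.Nonempty := ⟨TG o0, o0, rfl⟩
  have hi := Block.FischerTypes.M24.commutator_index B hne
  refine ⟨hi, Block.FischerTypes.M24.commutator_simple B hne, ?_⟩
  have h := (commutator ↥GG).card_mul_index
  rw [hi, card_GG] at h
  exact Nat.eq_of_mul_eq_mul_right (by norm_num : 0 < 2) (h.trans (by norm_num))

theorem exists_fi23_sub : ∃ K : Subgroup ↥(commutator ↥GG), IsFi23 K :=
  ⟨emb23.range.subgroupOf (commutator ↥GG),
    isFi23_of_equiv ((MonoidHom.ofInjective emb23_injective).trans (Subgroup.subgroupOfEquivOfLe emb23_commutator).symm)⟩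

end Cfsg.Agent.Fus.Fi24Model
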