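import Cfsg.Agent.Lib.Fus.Fi24Model.Trans
import Cfsg.Agent.Lib.Fus.Fi23Out.Main
import Cfsg.Prelude.Def_FischerSpaces

/-! The group of the model: class, point stabiliser, order and centre. -/

set_option autoImplicit false
set_option linter.style.haveILetI false
set_option maxRecDepth 100000

open Cfsg
open Cfsg.Agent.Spor.Cos
open Cfsg.Agent.Spor.Cos.Fi23 (actA piA g g_gen)
open Cfsg.Agent.Fus.M23U.TypeOf (dp commute_dp range_dp)

namespace Cfsg.Agent.Fus.Fi24Model

attribute [local instance] Cfsg.Agent.Spor.Cos.Fi23.finite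
attribute [local irreducible] kimN limN mimN imA permOf

/-- The group of the model. -/
noncomputable def GG : Subgroup (Equiv.Perm Xp) := Subgroup.closure (Set.range inc ∪ {kap})

theorem inc_GG (h : HH) : inc h ∈ GG := Subgroup.subset_closure (Or.inl ⟨h, rfl⟩)

theorem kap_GG : kap ∈ GG := Subgroup.subset_closure (Or.inr rfl)

theorem lam_GG : lam ∈ GG := inc_central ▸ inc_GG _

theorem T_GG (x : Xp) : T x ∈ GG := by
  obtain rfl | ⟨p, rfl⟩ | ⟨i, rfl⟩ := kinds x
  · rw [T_o0]; exact lam_GG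
  · rw [T_pP]; exact inc_GG _
  · obtain ⟨h, e⟩ := orbit_cpt i
    rw [T_orbit e]
    exact mul_mem (mul_mem (inc_GG _) kap_GG) (inv_mem (inc_GG _))

theorem T_equivariant {a : Equiv.Perm Xp} (ha : a ∈ GG) : ∀ x, a * T x * a⁻¹ = T (a x) := by
  induction ha using Subgroup.closure_induction'' with
  | mem a ha =>
    rcases ha with ⟨h, rfl⟩ | rfl
    · exact T_inc h
    · rw [inv_eq_of_mul_eq_one_right kap_sq]; exact T_kap
  | inv_mem a ha =>
    rcases ha with ⟨h, rfl⟩ | rfl
    · rw [← map_inv]; exact T_inc h⁻¹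
    · rw [inv_eq_of_mul_eq_one_right kap_sq, inv_eq_of_mul_eq_one_right kap_sq]; exact T_kap
  | one => intro x; simp
  | mul a b _ _ ha hb =>
    intro x
    rw [Equiv.Perm.mul_apply, ← ha, ← hb]
    group

theorem pP_orbit (p q : Fin actA.N) : ∃ h, inc h (pP p) = pP q := by
  obtain ⟨y, hy⟩ := Fi23.trA p
  obtain ⟨z, hz⟩ := Fi23.trA q
  refine ⟨(z * y⁻¹, 1), ?_⟩
  rw [inc_pP]
  refine congrArg pP ?_
  rw [show ((z * y⁻¹, (1 : Multiplicative (ZMod 2))) : HH).1 = z * y⁻¹ from rfl, map_mul,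
    Equiv.Perm.mul_apply, ← hy, map_inv]
  rw [Equiv.Perm.inv_eq_iff_eq.2 rfl, hz]

theorem from_zero (x : Xp) : ∃ a ∈ GG, a o0 = x := by
  have hA : ∀ i, ∃ a ∈ GG, a o0 = pA i := fun i => by
    obtain ⟨h, e⟩ := orbit_cpt i
    refine ⟨inc h * inc (1, sgn) * kap, mul_mem (mul_mem (inc_GG _) (inc_GG _)) kap_GG, ?_⟩
    rw [Equiv.Perm.mul_apply, Equiv.Perm.mul_apply, kap_o0, inc_central, lam_lcp, e]
  obtain rfl | ⟨p, rfl⟩ | ⟨i, rfl⟩ := kinds x
  · exact ⟨1, one_mem _, rfl⟩
  · obtain ⟨h, e⟩ := pP_orbit pOut p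
    obtain e' | ⟨i, hi⟩ : Tp pOut cpt = o0 ∨ ∃ i, Tp pOut cpt = pA i := by
      obtain ⟨j, hj⟩ := inc_apart (tH pOut) ⟨0, by rw [nA_eq]; norm_num⟩
      exact Or.inr ⟨j, hj⟩
    · exact absurd (inc_o0 (tH pOut)) fun h0 => pA_ne_o0 _ ((inc (tH pOut)).injective (e'.trans h0.symm))
    obtain ⟨a, ha, e'⟩ := hA i
    refine ⟨inc h * kap * a, mul_mem (mul_mem (inc_GG _) kap_GG) ha, ?_⟩
    rw [Equiv.Perm.mul_apply, Equiv.Perm.mul_apply, e', ← hi, ← (kap_out pOut p0_out).1, kap_kap, e]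
  · exact hA i

theorem transitive (x y : Xp) : ∃ a ∈ GG, a x = y := by
  obtain ⟨a, ha, rfl⟩ := from_zero x
  obtain ⟨b, hb, rfl⟩ := from_zero y
  exact ⟨b * a⁻¹, mul_mem hb (inv_mem ha), by rw [Equiv.Perm.mul_apply, Equiv.Perm.inv_eq_iff_eq.2 rfl]⟩

theorem kap_ne_lam : kap ≠ lam := fun h => by
  have := congrArg (fun t : Equiv.Perm Xp => t o0) h
  simp only [kap_o0, lam_o0] at this
  exact pA_ne_o0 _ this

theorem phi_injective : Function.Injective phi := by
  haveI := Fi23.isSimple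
  rcases (inferInstance : phi.ker.Normal).eq_bot_or_eq_top with h | h
  · exact (MonoidHom.ker_eq_bot_iff phi).1 h
  · refine absurd (MonoidHom.mem_ker.1 (h ▸ Subgroup.mem_top (g 0) : g 0 ∈ phi.ker)) fun e => ?_
    have h0 := congrArg (fun t : Equiv.Perm Xp => t (pP (M23U.Triality.pt 0))) e
    have hm : ∀ p, piA (g 0) p = p := fun p => pP_inj (by rw [← phi_pP, e]; rfl)
    exact M23U.TypeOf.g_zero_one ((commute_dp (p := M23U.Triality.pt (M23U.Triality.gi 0))).2 (hm _) |>
      fun c => by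
        rwa [show dp (M23U.Triality.pt (M23U.Triality.gi 0)) = g 1 from
          (M23U.Triality.ge_eq (k := 0) (by norm_num)).symm.trans (M23U.Triality.ge_letter (a := 0) (by norm_num))] at c)

theorem lam_ne_one : lam ≠ 1 := fun h => by
  have := congrArg (fun t : Equiv.Perm Xp => t cpt) h
  simp only [lam_cpt, Equiv.Perm.one_apply] at this
  exact absurd (congrArg Fin.val (pA_inj this)) Nat.one_ne_zero

theorem inc_injective : Function.Injective inc := by
  rw [injective_iff_map_eq_one]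
  intro h e
  rcases sgn_cases h.2 with e2 | e2
  · rw [inc_apply, e2, cz_one, mul_one] at e
    exact Prod.ext (phi_injective (e.trans (map_one _).symm)) e2
  · exfalso
    rw [inc_apply, e2, cz_sgn] at e
    have e' : phi h.1 = lam := by rw [eq_inv_of_mul_eq_one_left e, inv_eq_of_mul_eq_one_right lam_sq]
    haveI := Fi23.isSimple
    have hc : h.1 ∈ Subgroup.center Spor.Fi23 := Subgroup.mem_center_iff.2 fun y => phi_injective (by
      rw [map_mul, map_mul, e', (lam_phi y).eq])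
    rcases (inferInstance : (Subgroup.center Spor.Fi23).Normal).eq_bot_or_eq_top with b | b
    · rw [b, Subgroup.mem_bot] at hc
      exact lam_ne_one (by rw [← e', hc, map_one])
    · exact M23U.TypeOf.g_zero_one (Subgroup.mem_center_iff.1 (b ▸ Subgroup.mem_top (g 1)) (g 0))

theorem T_eq_lam {x : Xp} (h : T x = lam) : x = o0 := by
  obtain rfl | ⟨p, rfl⟩ | ⟨i, rfl⟩ := kinds x
  · rfl
  · exfalso
    rw [T_pP, Tp, ← inc_central] at h
    have e := congrArg Prod.fst (inc_injective h)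
    have hd : dp p ∈ M23U.TypeOf.classD := range_dp ▸ ⟨p, rfl⟩
    rw [show dp p = 1 from e] at hd
    have h1 : g 0 = 1 := isConj_one_left.1 hd
    exact M23U.TypeOf.g_zero_one (by rw [h1]; exact Commute.one_left _)
  · exfalso
    obtain ⟨k, hk⟩ := orbit_cpt i
    rw [T_orbit hk] at h
    refine kap_ne_lam ?_
    have := congrArg (fun t => (inc k)⁻¹ * t * inc k) h
    simp only [mul_assoc, inv_mul_cancel_left, inv_mul_cancel, mul_one] at this
    rw [this, (lam_inc k).eq, inv_mul_cancel_left]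

theorem T_injective : Function.Injective T := by
  intro x y h
  obtain ⟨a, ha, rfl⟩ := from_zero x
  have e := T_equivariant (inv_mem ha) y
  rw [← h, ← T_equivariant ha, T_o0, inv_inv] at e
  simp only [mul_assoc, inv_mul_cancel_left, inv_mul_cancel, mul_one] at e
  exact (Equiv.Perm.inv_eq_iff_eq.1 (T_eq_lam e.symm)).symm

theorem T_sq (x : Xp) : T x * T x = 1 := by
  obtain ⟨a, ha, rfl⟩ := from_zero x
  rw [← T_equivariant ha, T_o0]
  simp only [mul_assoc, inv_mul_cancel_left]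
  rw [← mul_assoc lam, lam_sq, one_mul, mul_inv_cancel]

theorem T_ne_one (x : Xp) : T x ≠ 1 := fun h => by
  obtain ⟨a, ha, rfl⟩ := from_zero x
  rw [← T_equivariant ha, T_o0, conj_eq_one_iff] at h
  exact lam_ne_one h

theorem T_three (x y : Xp) : (T x * T y) ^ 2 = 1 ∨ (T x * T y) ^ 3 = 1 := by
  obtain ⟨a, ha, rfl⟩ := from_zero x
  obtain ⟨z, rfl⟩ : ∃ z, a z = y := ⟨a⁻¹ y, a.apply_symm_apply y⟩
  rw [← T_equivariant ha, ← T_equivariant ha z, T_o0,
    show a * lam * a⁻¹ * (a * T z * a⁻¹) = a * (lam * T z) * a⁻¹ by group, conj_pow, conj_pow, conj_eq_one_iff,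
    conj_eq_one_iff]
  obtain rfl | ⟨p, rfl⟩ | ⟨i, rfl⟩ := kinds z
  · left; rw [T_o0, lam_sq, one_pow]
  · left; rw [T_pP, pow_two, (lam_Tp p).symm.mul_mul_mul_comm, lam_sq, Tp_sq, one_mul]
  · right
    obtain ⟨k, hk⟩ := orbit_cpt i
    rw [T_orbit hk, show lam * (inc k * kap * (inc k)⁻¹) = inc k * (lam * kap) * (inc k)⁻¹ by
      rw [← mul_assoc, ← mul_assoc, (lam_inc k).eq, mul_assoc (inc k)], conj_pow, conj_eq_one_iff]
    simp only [pow_succ, pow_zero, one_mul]
    rw [show lam * kap * (lam * kap) * (lam * kap) = lam * (kap * lam * kap) * lam * kap by simp only [mul_assoc],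
      kap_lam, ← mul_assoc, ← mul_assoc, lam_sq, one_mul, mul_assoc kap lam lam, lam_sq, mul_one, kap_sq]

/-- A transposition as an element of the group. -/
noncomputable def TG (x : Xp) : ↥GG := ⟨T x, T_GG x⟩

/-- The transpositions. -/
noncomputable def DD : Set ↥GG := Set.range TG

theorem TG_injective : Function.Injective TG := fun _ _ h => T_injective (congrArg Subtype.val h)

theorem TG_conj (a : ↥GG) (x : Xp) : a * TG x * a⁻¹ = TG ((a : Equiv.Perm Xp) x) :=
  Subtype.ext (T_equivariant a.2 x)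

theorem card_DD : Nat.card DD = 306936 := by
  rw [DD, Nat.card_range_of_injective TG_injective, Nat.card_fin, M_eq]

theorem DD_closure : Subgroup.closure DD = ⊤ := by
  have hle : GG ≤ (Subgroup.closure DD).map GG.subtype := by
    rw [MonoidHom.map_closure]
    set C := Subgroup.closure (GG.subtype '' DD)
    have hT : ∀ x, T x ∈ C := fun x => Subgroup.subset_closure ⟨TG x, ⟨x, rfl⟩, rfl⟩
    have hd : ∀ y ∈ M23U.TypeOf.classD, inc (y, sgn) ∈ C := by
      intro y hy
      rw [← range_dp] at hy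
      obtain ⟨p, rfl⟩ := hy
      have := hT (pP p)
      rwa [T_pP] at this
    have hl : inc (1, sgn) ∈ C := by rw [inc_central, ← T_o0]; exact hT o0
    have hy : ∀ y, inc (y, 1) ∈ C := fun y => by
      refine fi23_induction (P := fun y => inc (y, 1) ∈ C) ?_ (fun a b ha hb => ?_) (fun s hs => ?_) y
      · rw [show ((1, 1) : HH) = 1 from rfl, map_one]; exact one_mem _
      · rw [show ((a * b, 1) : HH) = (a, 1) * (b, 1) from Prod.ext rfl (one_mul _).symm, map_mul]
        exact mul_mem ha hb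
      · rw [show ((g s, 1) : HH) = (g s, sgn) * (1, sgn) from Prod.ext (mul_one _).symm sgn_sq.symm, map_mul]
        exact mul_mem (hd _ (M23U.TypeOf.g_conj s hs)) hl
    refine (Subgroup.closure_le _).2 ?_
    rintro _ (⟨⟨y, e⟩, rfl⟩ | rfl)
    · rcases sgn_cases e with rfl | rfl
      · exact hy y
      · rw [show ((y, sgn) : HH) = (y, 1) * (1, sgn) from Prod.ext (mul_one _).symm (one_mul _).symm, map_mul]
        exact mul_mem (hy y) hl
    · rw [← T_cpt]; exact hT cpt
  rw [← (Subgroup.map_injective GG.subtype_injective).eq_iff, ← MonoidHom.range_eq_map, Subgroup.range_subtype]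
  exact le_antisymm (by rw [Subgroup.map_le_iff_le_comap]; exact fun a _ => a.2) hle

theorem isClass : IsThreeTranspositionClass DD := by
  refine ⟨⟨?_, ?_⟩, ⟨TG o0, ⟨o0, rfl⟩, ?_⟩, DD_closure⟩
  · rintro _ ⟨x, rfl⟩
    exact orderOf_eq_prime (Subtype.ext (by rw [pow_two]; exact T_sq x)) fun h => T_ne_one x (congrArg Subtype.val h)
  · rintro _ ⟨x, rfl⟩ _ ⟨y, rfl⟩
    exact (T_three x y).imp (fun h => Subtype.ext h) fun h => Subtype.ext h
  · ext d
    constructor
    · rintro ⟨x, rfl⟩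
      obtain ⟨a, ha, rfl⟩ := from_zero x
      exact _root_.isConj_iff.2 ⟨⟨a, ha⟩, TG_conj ⟨a, ha⟩ o0⟩
    · intro hd
      obtain ⟨a, rfl⟩ := _root_.isConj_iff.1 (show _root_.IsConj (TG o0) d from hd)
      exact ⟨_, (TG_conj a o0).symm⟩

theorem isGroup : IsThreeTranspositionGroup DD :=
  ⟨isClass.1, fun a _ ⟨x, e⟩ => e ▸ ⟨_, (TG_conj a x).symm⟩, DD_closure⟩

theorem commute_lam_iff (x : Xp) : Commute lam (T x) ↔ ∀ i, x ≠ pA i := by
  constructor
  · rintro h i rfl
    obtain ⟨k, hk⟩ := orbit_cpt i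
    rw [T_orbit hk] at h
    have hc : Commute lam kap := by
      have e := ((lam_inc k).inv_right.mul_right h).mul_right (lam_inc k)
      simpa only [mul_assoc, inv_mul_cancel_left, inv_mul_cancel, mul_one] using e
    refine kap_ne_lam ?_
    have e := kap_lam
    rw [← hc.eq, mul_assoc, kap_sq, mul_one, mul_assoc, ← hc.eq, ← mul_assoc, lam_sq, one_mul] at e
    exact e.symm
  · intro h
    obtain rfl | ⟨p, rfl⟩ | ⟨i, rfl⟩ := kinds x
    · rw [T_o0]
    · rw [T_pP]; exact lam_Tp p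
    · exact absurd rfl (h i)

theorem stab_zero {a : Equiv.Perm Xp} (ha : a ∈ GG) (h0 : a o0 = o0) : ∃ h, inc h = a := by
  classical
  have hl : Commute a lam := by
    have := T_equivariant ha o0
    rw [h0, T_o0] at this
    calc a * lam = a * lam * a⁻¹ * a := by group
      _ = lam * a := by rw [this]
  have hP : ∀ p, ∃ q, a (pP p) = pP q := by
    intro p
    have hc : Commute lam (T (a (pP p))) := by
      rw [← T_equivariant ha, T_pP]
      exact (hl.symm.mul_right (lam_Tp p)).mul_right hl.symm.inv_right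
    obtain e | hq | ⟨i, e⟩ := kinds (a (pP p))
    · exact absurd (a.injective (e.trans h0.symm)) (pP_ne_o0 p)
    · exact hq
    · exact absurd e ((commute_lam_iff _).1 hc i)
  have hd : ∀ p, ∃ q, a * phi (dp p) * a⁻¹ = phi (dp q) := by
    intro p
    obtain ⟨q, hq⟩ := hP p
    refine ⟨q, ?_⟩
    have e := T_equivariant ha (pP p)
    rw [hq, T_pP, T_pP, Tp, Tp, tH, tH, inc_apply, inc_apply, cz_sgn] at e
    calc a * phi (dp p) * a⁻¹ = a * (phi (dp p) * lam) * a⁻¹ * (a * lam⁻¹ * a⁻¹) := by group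
      _ = phi (dp q) := by
        rw [e, inv_eq_of_mul_eq_one_right lam_sq, hl.eq, mul_inv_cancel_right, mul_assoc, lam_sq, mul_one]
  have hR : ∀ y, a * phi y * a⁻¹ ∈ phi.range := fun y => fi23_induction (P := fun y => a * phi y * a⁻¹ ∈ phi.range)
    (by rw [map_one, mul_one, mul_inv_cancel]; exact one_mem _)
    (fun u v hu hv => by
      rw [map_mul, show a * (phi u * phi v) * a⁻¹ = (a * phi u * a⁻¹) * (a * phi v * a⁻¹) by group]
      exact mul_mem hu hv)
    (fun s hs => by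
      have hm : g s ∈ M23U.TypeOf.classD := M23U.TypeOf.g_conj s hs
      rw [← range_dp] at hm
      obtain ⟨p, hp⟩ := hm
      obtain ⟨q, hq⟩ := hd p
      rw [← hp, hq]
      exact ⟨_, rfl⟩) y
  choose α hα using hR
  let αh : Spor.Fi23 →* Spor.Fi23 := MonoidHom.mk' α fun u v => phi_injective (by
    rw [map_mul, hα, hα, hα, map_mul]; group)
  have hinj : Function.Injective αh := fun u v e => phi_injective (by
    have h1 := congrArg phi (show α u = α v from e)
    rw [hα, hα] at h1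
    simpa using h1)
  let αe : MulAut Spor.Fi23 := MulEquiv.ofBijective αh ⟨hinj, Finite.surjective_of_injective hinj⟩
  haveI : Subsingleton (Cfsg.Out Spor.Fi23) := (Nat.card_eq_one_iff_unique.1 Fi23Out.card_out).1
  have hin : αe ∈ Cfsg.Inn Spor.Fi23 := (QuotientGroup.eq_one_iff αe).1 (Subsingleton.elim _ _)
  obtain ⟨y₀, hy₀⟩ := hin
  have hy : ∀ y, a * phi y * a⁻¹ = phi y₀ * phi y * (phi y₀)⁻¹ := fun y => by
    rw [← map_inv, ← map_mul, ← map_mul, ← hα]
    exact congrArg phi (congrArg (fun t : MulAut Spor.Fi23 => t y) hy₀).symm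
  set b := (phi y₀)⁻¹ * a with hb
  have hbG : b ∈ GG := by
    refine mul_mem (inv_mem ?_) ha
    have h1 := inc_GG (y₀, 1)
    rwa [inc_apply, cz_one, mul_one] at h1
  have hbphi : ∀ y, Commute b (phi y) := fun y => by
    calc b * phi y = (phi y₀)⁻¹ * (a * phi y * a⁻¹) * a := by rw [hb]; group
      _ = phi y * b := by rw [hy, hb]; group
  have hbl : Commute b lam := ((lam_phi y₀).symm.inv_left).mul_left hl
  have hbinc : ∀ h, Commute b (inc h) := fun h => by
    rw [inc_apply]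
    refine (hbphi _).mul_right ?_
    rcases sgn_cases h.2 with e | e <;> rw [e]
    · rw [cz_one]; exact Commute.one_right _
    · rw [cz_sgn]; exact hbl
  have hb0 : b o0 = o0 := by
    rw [hb, Equiv.Perm.mul_apply, h0, Equiv.Perm.inv_eq_iff_eq, phi_o0]
  have hbP : ∀ p, b (pP p) = pP p := fun p => by
    refine T_injective ?_
    rw [← T_equivariant hbG, T_pP, Tp, (hbinc _).eq, mul_inv_cancel_right]
  have hfix : ∀ s, s < 9 → mP (s + 1) (b cpt) = b cpt := fun s hs => by
    rw [← inc_g (show s + 1 < 10 by omega), ← Equiv.Perm.mul_apply, ← (hbinc _).eq, Equiv.Perm.mul_apply,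
      inc_g (show s + 1 < 10 by omega), mP_cpt hs]
  obtain e | ⟨p, e⟩ | ⟨i, e⟩ := kinds (b cpt)
  · exact absurd (b.injective (e.trans hb0.symm)) (pA_ne_o0 _)
  · exact absurd (b.injective (e.trans (hbP p).symm)) (pA_ne_pP _ p)
  have hi : (i : ℕ) < 2 := by
    by_contra hn
    obtain ⟨s, hs, hne⟩ := moved i (by omega)
    refine hne (pA_inj ((mP_pA (by omega) i).symm.trans ?_))
    rw [← e, hfix s hs]
  obtain ⟨z, hz⟩ : ∃ z : Multiplicative (ZMod 2), b cpt = cz z cpt := by
    rcases Nat.eq_zero_or_pos (i : ℕ) with h | h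
    · exact ⟨1, by rw [cz_one, e]; exact congrArg pA (Fin.ext h)⟩
    · exact ⟨sgn, by rw [cz_sgn, lam_cpt, e]; exact congrArg pA (Fin.ext (show (i : ℕ) = 1 by omega))⟩
  have hbz : b = cz z := by
    have hcz : cz z = inc (1, z) := by rw [inc_apply, map_one, one_mul]
    refine Equiv.ext fun x => ?_
    obtain rfl | ⟨p, rfl⟩ | ⟨j, rfl⟩ := kinds x
    · rw [hb0, hcz, inc_o0]
    · rw [hbP, hcz, inc_pP, map_one, Equiv.Perm.one_apply]
    · obtain ⟨k, hk⟩ := orbit_cpt j
      rw [← hk, ← Equiv.Perm.mul_apply, (hbinc k).eq, Equiv.Perm.mul_apply, hz, hcz, ← Equiv.Perm.mul_apply,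
        ← map_mul, ← Equiv.Perm.mul_apply, ← map_mul,
        show k * ((1, z) : HH) = (1, z) * k from Prod.ext (by simp) (mul_comm _ _)]
  refine ⟨(y₀, z), ?_⟩
  rw [inc_apply, ← hbz, hb, mul_inv_cancel_left]

theorem centralizer_TG_zero : Subgroup.centralizer ({TG o0} : Set ↥GG) =
    ((inc : HH →* Equiv.Perm Xp).range).subgroupOf GG := by
  ext a
  rw [Subgroup.mem_centralizer_singleton_iff, Subgroup.mem_subgroupOf]
  constructor
  · intro h
    have h0 : (a : Equiv.Perm Xp) o0 = o0 := by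
      refine congrArg id (TG_injective ?_)
      rw [← TG_conj, h, mul_inv_cancel_right]; rfl
    exact stab_zero a.2 h0
  · rintro ⟨k, hk⟩
    refine Subtype.ext ?_
    show (a : Equiv.Perm Xp) * T o0 = T o0 * a
    rw [T_o0, ← hk]
    exact (lam_inc k).eq.symm

theorem card_GG : Nat.card ↥GG = 306936 * (2 * 4089470473293004800) := by
  have hs : MulAction.stabilizer ↥GG o0 = ((inc : HH →* Equiv.Perm Xp).range).subgroupOf GG := by
    ext a
    rw [MulAction.mem_stabilizer_iff, Subgroup.mem_subgroupOf]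
    exact ⟨fun h => stab_zero a.2 h, fun ⟨k, hk⟩ => show (a : Equiv.Perm Xp) o0 = o0 by rw [← hk, inc_o0]⟩
  have hle : (inc : HH →* Equiv.Perm Xp).range ≤ GG := fun _ ⟨k, e⟩ => e ▸ inc_GG k
  haveI : MulAction.IsPretransitive ↥GG Xp := ⟨fun x y => by
    obtain ⟨a, ha, e⟩ := transitive x y
    exact ⟨⟨a, ha⟩, e⟩⟩
  rw [← (MulAction.stabilizer ↥GG o0).card_mul_index, MulAction.index_stabilizer_of_transitive,
    Nat.card_fin, M_eq, hs, Nat.card_congr (Subgroup.subgroupOfEquivOfLe hle).toEquiv,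
    ← Nat.card_congr (MonoidHom.ofInjective inc_injective).toEquiv, card_HH, mul_comm]

theorem center_GG : Subgroup.center ↥GG = ⊥ := by
  refine (Subgroup.eq_bot_iff_forall _).2 fun z hz => Subtype.ext (Equiv.ext fun x => ?_)
  refine congrArg id (TG_injective ?_)
  rw [← TG_conj, ← Subgroup.mem_center_iff.1 hz (TG x), mul_inv_cancel_right]
  rfl

end Cfsg.Agent.Fus.Fi24Model
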