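import Cfsg.Agent.Lib.Fus.Fi24Model.Exists
import Cfsg.Agent.Lib.Spor.Cos.He.IsSimple

/-! A copy of the Held group lies in the commutator subgroup of the model. -/

set_option autoImplicit false
set_option linter.style.haveILetI false
set_option maxRecDepth 100000

open Cfsg
open Cfsg.Agent.Spor.Cos

namespace Cfsg.Agent.Fus.Fi24Model

theorem commutator_he : commutator Spor.He = ⊤ := by
  haveI := He.isSimple
  haveI := He.finite
  refine (IsSimpleGroup.eq_bot_or_eq_top_of_normal _ inferInstance).resolve_left fun h => ?_
  rw [commutator_def, Subgroup.commutator_eq_bot_iff_le_centralizer] at h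
  haveI : IsMulCommutative Spor.He := ⟨⟨fun a b =>
    Subgroup.mem_centralizer_iff.1 (h (Subgroup.mem_top b)) a (Subgroup.mem_top a)⟩⟩
  letI : CommGroup Spor.He :=
    { (inferInstance : Group Spor.He) with mul_comm := fun a b => IsMulCommutative.is_comm.comm a b }
  have hp := IsSimpleGroup.prime_card (α := Spor.He)
  rw [He.card_eq] at hp
  norm_num at hp

/-- A Held subgroup of the group gives one of its commutator subgroup. -/
theorem exists_he_of {H : Subgroup ↥GG} (e : ↥H ≃* Spor.He) : ∃ K : Subgroup ↥(commutator ↥GG), IsHe K := by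
  haveI := He.isSimple
  have hle : H ≤ commutator ↥GG := by
    have hr : H = (H.subtype.comp e.symm.toMonoidHom).range := by
      rw [MonoidHom.range_comp, MonoidHom.range_eq_top.2 e.symm.surjective, ← MonoidHom.range_eq_map,
        Subgroup.range_subtype]
    rw [hr, MonoidHom.range_eq_map, ← commutator_he, commutator_def, Subgroup.map_commutator, commutator_def]
    exact Subgroup.commutator_mono le_top le_top
  let f : Spor.He ≃* ↥(H.subgroupOf (commutator ↥GG)) := e.symm.trans (Subgroup.subgroupOfEquivOfLe hle).symm
  haveI : Nontrivial ↥(H.subgroupOf (commutator ↥GG)) := f.toEquiv.symm.nontrivial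
  exact ⟨_, IsSimpleGroup.isSimpleGroup_of_surjective f.toMonoidHom f.surjective,
    (Nat.card_congr f.toEquiv).symm.trans He.card_eq⟩

end Cfsg.Agent.Fus.Fi24Model
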