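import Cfsg.Agent.Lib.Fus.Fi24Model.Trees

/-! How the outer generator meets the transpositions of the neighbours. -/

set_option autoImplicit false
set_option linter.style.haveILetI false
set_option maxRecDepth 100000

open Cfsg.Agent.Spor.Cos
open Cfsg.Agent.Spor.Cos.Fi23 (actA piA homA g g_sq)
open Cfsg.Agent.Fus.M23U.TypeOf (dp dp_equivariant commute_dp dp_injective range_dp classD)
open Cfsg.Agent.Fus.M23U.Triality (pt ge gw gi gw_lt HB d_HB ge_HB ge_letter ge_eq)

namespace Cfsg.Agent.Fus.Fi24Model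

attribute [local irreducible] kimN limN mimN imA permOf

/-- The transposition of a neighbour. -/
noncomputable def Tp (p : Fin actA.N) : Equiv.Perm Xp := inc (tH p)

theorem inc_conj_Tp (h : HH) (p : Fin actA.N) : inc h * Tp p * (inc h)⁻¹ = Tp (piA h.1 p) := by
  rw [Tp, Tp, ← tH_conj, map_mul, map_mul, map_inv]

theorem dp_sq (p : Fin actA.N) : dp p * dp p = 1 := by
  rw [dp]
  simp only [mul_assoc, inv_mul_cancel_left]
  rw [← mul_assoc Fi23.tz, Fi23.tz_sq, one_mul, mul_inv_cancel]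

theorem tH_sq (p : Fin actA.N) : tH p * tH p = 1 := Prod.ext (dp_sq p) sgn_sq

theorem Tp_sq (p : Fin actA.N) : Tp p * Tp p = 1 := by rw [Tp, ← map_mul, tH_sq, map_one]

theorem Tp_inv (p : Fin actA.N) : (Tp p)⁻¹ = Tp p := inv_eq_of_mul_eq_one_right (Tp_sq p)

theorem Tp_Tp (p : Fin actA.N) (x : Xp) : Tp p (Tp p x) = x := by
  rw [← Equiv.Perm.mul_apply, Tp_sq, Equiv.Perm.one_apply]

theorem Tp_conj_Tp (e p : Fin actA.N) : Tp e * Tp p * Tp e = Tp (piA (dp e) p) := by
  have h := inc_conj_Tp (tH e) p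
  rwa [show inc (tH e) = Tp e from rfl, Tp_inv] at h

theorem Tp_pP (e p : Fin actA.N) : Tp e (pP p) = pP (piA (dp e) p) := inc_pP _ _

theorem lam_Tp (p : Fin actA.N) : Commute lam (Tp p) := lam_inc _

theorem Tp_pOut : Tp pOut = mP 0 := by rw [Tp, tH, dp_pOut, inc_g (by norm_num)]

theorem mP_sq (s : ℕ) : mP s * mP s = 1 := permOf_sq _

theorem mP_mP (s : ℕ) (x : Xp) : mP s (mP s x) = x := by
  rw [← Equiv.Perm.mul_apply, mP_sq, Equiv.Perm.one_apply]

theorem mP_conj_Tp {s : ℕ} (hs : s < 10) (p : Fin actA.N) : mP s * Tp p * mP s = Tp (piA (g s) p) := by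
  have h := inc_conj_Tp (g s, sgn) p
  rwa [inc_g hs, inv_eq_of_mul_eq_one_right (mP_sq s)] at h

theorem mP_pi {s : ℕ} (hs : s < 10) (p : Fin actA.N) : mP s (pP p) = pP (piA (g s) p) := by
  rw [mP_pP hs, homA.gen]

/-- The apart point of the outer generator. -/
def cpt : Xp := pA ⟨0, by rw [nA_eq]; norm_num⟩

/-- The other point of its pair. -/
def lcp : Xp := pA ⟨1, by rw [nA_eq]; norm_num⟩

theorem lam_cpt : lam cpt = lcp := by rw [cpt, lam_pA]; rfl

theorem lam_lcp : lam lcp = cpt := by rw [← lam_cpt, lam_lam]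

theorem kap_cpt : kap cpt = cpt := Fin.ext (by rw [kap_val]; exact cpt_kap)

theorem kap_o0 : kap o0 = lcp := Fin.ext (by rw [kap_val]; exact zero_kap)

theorem kap_lcp : kap lcp = o0 := by rw [← kap_o0, kap_kap]

theorem mP_cpt {s : ℕ} (hs : s < 9) : mP (s + 1) cpt = cpt := by
  rw [cpt, mP_pA (by omega)]
  exact congrArg pA (Fin.ext (cpt_fixed s hs))

theorem kap_mP_apply {s : ℕ} (hs : s < 9) (x : Xp) : kap (mP (s + 1) x) = mP (s + 1) (kap x) := by
  rw [← Equiv.Perm.mul_apply, (kap_mP hs).eq, Equiv.Perm.mul_apply]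

/-- The facts at an outside neighbour. -/
theorem kap_out (q : Fin actA.N) (hq : inW q = false) :
    kap (pP q) = Tp q cpt ∧ kap (lam (kap (pP q))) = lam (kap (pP q)) ∧
      kap * Tp q * kap = Tp q * kap * Tp q := by
  refine out_ind (P := fun q => kap (pP q) = Tp q cpt ∧ kap (lam (kap (pP q))) = lam (kap (pP q)) ∧
      kap * Tp q * kap = Tp q * kap * Tp q) ?_ ?_ q hq
  · have h : kap (pP pOut) = mP 0 cpt := Fin.ext (by
      rw [kap_val, cpt, mP_pA (by norm_num)]
      exact out_kap)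
    refine ⟨Tp_pOut ▸ h, ?_, by rw [Tp_pOut]; exact kap_mzero⟩
    rw [h, cpt, mP_pA (by norm_num), lam_pA]
    refine Fin.ext ?_
    rw [kap_val]
    have := rk_kap
    rw [rk_eq] at this
    exact this
  · rintro s hs p - ⟨h1, h2, h3⟩
    have hT := mP_conj_Tp (show s + 1 < 10 by omega) p
    have hk : kap (pP (piA (g (s + 1)) p)) = mP (s + 1) (kap (pP p)) := by
      rw [← mP_pi (by omega), kap_mP_apply hs]
    refine ⟨?_, ?_, ?_⟩
    · rw [hk, h1, ← hT, Equiv.Perm.mul_apply, Equiv.Perm.mul_apply, mP_cpt hs]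
    · have hl : ∀ x, lam (mP (s + 1) x) = mP (s + 1) (lam x) := fun x => by
        rw [← Equiv.Perm.mul_apply, (lam_mP (show s + 1 < 10 by omega)).eq, Equiv.Perm.mul_apply]
      rw [hk, hl, kap_mP_apply hs, h2]
    · have hm := (kap_mP hs).eq
      have hc : mP (s + 1) * kap * mP (s + 1) = kap := by rw [← hm, mul_assoc, mP_sq, mul_one]
      have hmul : ∀ a b : Equiv.Perm Xp, mP (s + 1) * (a * b) * mP (s + 1) =
          (mP (s + 1) * a * mP (s + 1)) * (mP (s + 1) * b * mP (s + 1)) := fun a b => by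
        simp only [mul_assoc]
        rw [← mul_assoc (mP (s + 1)) (mP (s + 1)), mP_sq, one_mul]
      have := congrArg (fun t => mP (s + 1) * t * mP (s + 1)) h3
      simp only [hmul, hc, hT] at this
      exact this

/-- The shape of a point apart. -/
def Shape (x : Xp) : Prop :=
  x = cpt ∨ x = lcp ∨ ∃ q : Fin actA.N, inW q = false ∧ (x = kap (pP q) ∨ x = lam (kap (pP q)) ∨
    ∃ r : Fin actA.N, inW r = false ∧ x = Tp q (kap (pP r)))

theorem mP_lcp {s : ℕ} (hs : s < 9) : mP (s + 1) lcp = lcp := by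
  rw [← lam_cpt, ← Equiv.Perm.mul_apply, ← (lam_mP (show s + 1 < 10 by omega)).eq, Equiv.Perm.mul_apply, mP_cpt hs]

theorem shapes : ∀ i, Shape (pA i) := by
  refine apart_ind (fun i hi => ?_) ?_ ?_ ?_ ?_
  · rcases Nat.eq_zero_or_pos (i : ℕ) with h | h
    · exact Or.inl (congrArg pA (Fin.ext h))
    · exact Or.inr (Or.inl (congrArg pA (Fin.ext (show (i : ℕ) = 1 by omega))))
  · refine Or.inr (Or.inr ⟨pOut, p0_out, Or.inl ?_⟩)
    rw [(kap_out pOut p0_out).1, Tp_pOut, cpt, mP_pA (by norm_num)]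
    exact congrArg pA (Fin.ext rk_eq)
  · refine Or.inr (Or.inr ⟨pOut, p0_out, Or.inr (Or.inl ?_)⟩)
    rw [(kap_out pOut p0_out).1, Tp_pOut, cpt, mP_pA (by norm_num), lam_pA]
    exact congrArg pA (Fin.ext (congrArg (Nat.xor · 1) rk_eq))
  · refine Or.inr (Or.inr ⟨pOut, p0_out, Or.inr (Or.inr ⟨qOut, q1_out, ?_⟩)⟩)
    rw [Tp_pOut]
    refine Fin.ext ?_
    rw [mP_val (by norm_num), kap_val]
    exact rz_eq.symm
  · intro s hs i hi
    have hm : pA (mA (s + 1) (by omega) i) = mP (s + 1) (pA i) := (mP_pA (by omega) i).symm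
    rw [hm]
    have hT : ∀ q x, mP (s + 1) (Tp q x) = Tp (piA (g (s + 1)) q) (mP (s + 1) x) := fun q x => by
      rw [← mP_conj_Tp (show s + 1 < 10 by omega) q, Equiv.Perm.mul_apply, Equiv.Perm.mul_apply, mP_mP]
    have hk : ∀ q, mP (s + 1) (kap (pP q)) = kap (pP (piA (g (s + 1)) q)) := fun q => by
      rw [← mP_pi (by omega), kap_mP_apply hs]
    have hl : ∀ x, mP (s + 1) (lam x) = lam (mP (s + 1) x) := fun x => by
      rw [← Equiv.Perm.mul_apply, ← (lam_mP (show s + 1 < 10 by omega)).eq, Equiv.Perm.mul_apply]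
    rcases hi with h | h | ⟨q, hq, h⟩
    · exact Or.inl (by rw [h, mP_cpt hs])
    · exact Or.inr (Or.inl (by rw [h, mP_lcp hs]))
    refine Or.inr (Or.inr ⟨piA (g (s + 1)) q, by rw [inW_g hs]; exact hq, ?_⟩)
    rcases h with h | h | ⟨r, hr, h⟩ <;> rw [h]
    · exact Or.inl (hk q)
    · exact Or.inr (Or.inl (by rw [hl, hk]))
    · exact Or.inr (Or.inr ⟨piA (g (s + 1)) r, by rw [inW_g hs]; exact hr, by rw [hT, hk]⟩)

/-- The transposition of the first block's partner. -/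
noncomputable def e9 : Fin actA.N := pt (gi 9)

theorem dp_e9 : dp e9 = ge 9 := (ge_eq (by norm_num)).symm

theorem e9_cpt : Tp e9 cpt = cpt := by
  rw [Tp, tH, dp_e9, inc_apply, cz_sgn, ← (lam_phi _).eq, Equiv.Perm.mul_apply, ge, ev_map phi g (gw 9),
    show (fun s => phi (g s)) = eP from funext phi_g]
  obtain ⟨h, e, -⟩ := goA_spec (gw 9) (gw_lt 9 (by norm_num)) ⟨0, by rw [nA_eq]; norm_num⟩
  rw [cpt, e, lam_pA]
  exact congrArg pA (Fin.ext nine_fixed)

/-- The outer generator commutes with the partner's transposition. -/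
theorem kap_e9 : Commute kap (Tp e9) := by
  have hW : ∀ q : Fin actA.N, inW (piA (dp e9) q) = inW q := fun q => by rw [dp_e9]; exact inW_ge_iff (by norm_num) q
  have hl : ∀ x, Tp e9 (lam x) = lam (Tp e9 x) := fun x => by
    rw [← Equiv.Perm.mul_apply, ← (lam_Tp e9).eq, Equiv.Perm.mul_apply]
  have hlcp : Tp e9 lcp = lcp := by rw [← lam_cpt, hl, e9_cpt]
  have FP : ∀ p, kap (Tp e9 (pP p)) = Tp e9 (kap (pP p)) := by
    intro p
    rw [Tp_pP]
    rcases Bool.eq_false_or_eq_true (inW p) with h | h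
    · rw [kap_inW (by rw [hW]; exact h), kap_inW h, Tp_pP]
    · rw [(kap_out _ (by rw [hW]; exact h)).1, (kap_out p h).1, ← Tp_conj_Tp, Equiv.Perm.mul_apply,
        Equiv.Perm.mul_apply, e9_cpt]
  have FK : ∀ q : Fin actA.N, inW q = false → kap (Tp e9 (kap (pP q))) = Tp e9 (pP q) := fun q _ => by
    rw [← FP, kap_kap]
  refine Equiv.ext fun x => ?_
  rw [Equiv.Perm.mul_apply, Equiv.Perm.mul_apply]
  obtain rfl | ⟨p, rfl⟩ | ⟨i, rfl⟩ := kinds x
  · rw [show Tp e9 o0 = o0 from inc_o0 _, kap_o0, hlcp]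
  · exact FP p
  rcases shapes i with h | h | ⟨q, hq, h | h | ⟨r, hr, h⟩⟩ <;> rw [h]
  · rw [e9_cpt, kap_cpt, e9_cpt]
  · rw [hlcp, kap_lcp, show Tp e9 o0 = o0 from inc_o0 _]
  · rw [FK q hq, kap_kap]
  · rw [hl, (kap_out q hq).2.1, hl]
    have hq' : inW (piA (dp e9) q) = false := by rw [hW]; exact hq
    rw [← FP, Tp_pP]
    exact (kap_out _ hq').2.1
  · set q' := piA (dp e9) q with hq'd
    have hq' : inW q' = false := by rw [hq'd, hW]; exact hq
    have he : ∀ y, Tp e9 (Tp q y) = Tp q' (Tp e9 y) := fun y => by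
      rw [hq'd, ← Tp_conj_Tp, Equiv.Perm.mul_apply, Equiv.Perm.mul_apply, Tp_Tp]
    have hb : ∀ y, kap (Tp q' (kap y)) = Tp q' (kap (Tp q' y)) := fun y => by
      have := congrArg (fun t : Equiv.Perm Xp => t y) (kap_out q' hq').2.2
      simpa only [Equiv.Perm.mul_apply] using this
    have hb' : ∀ y, kap (Tp q (kap y)) = Tp q (kap (Tp q y)) := fun y => by
      have := congrArg (fun t : Equiv.Perm Xp => t y) (kap_out q hq).2.2
      simpa only [Equiv.Perm.mul_apply] using this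
    rw [he, ← FP r, hb, hb', Tp_pP q r, he, ← FP, ← Tp_pP q r, he]

end Cfsg.Agent.Fus.Fi24Model
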