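import Cfsg.Agent.Lib.Fus.Fi24Model.Checks
import Cfsg.Agent.Lib.Fus.M23U.TypeOf.Points
import Cfsg.Agent.Lib.Spor.Cos.Fi23.Trans

/-! The permutations of the model of Fi24, and the action of Fi23 × 2 on it. -/

set_option autoImplicit false
set_option linter.style.haveILetI false
set_option maxRecDepth 100000

open Cfsg.Agent.Spor.Cos
open Cfsg.Agent.Spor.Cos.Fi23 (actA piA homA g g_sq g_gen)
open Cfsg.Agent.Fus.M23U.TypeOf (dp dp_equivariant)

namespace Cfsg.Agent.Fus.Fi24Model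

theorem nA_eq : nA = 275264 := rfl
theorem M_eq : M = 306936 := rfl
theorem A0_eq : A0 = 31672 := rfl
theorem N_eq : actA.N = 31671 := rfl
theorem n_eq : actA.n = 10 := rfl

theorem xor_one_xor_one (i : ℕ) : Nat.xor (Nat.xor i 1) 1 = i := by
  show (i ^^^ 1) ^^^ 1 = i
  rw [Nat.xor_assoc, Nat.xor_self, Nat.xor_zero]

theorem xor_swap (i j : ℕ) : Nat.xor (Nat.xor i j) 1 = Nat.xor (Nat.xor i 1) j := by
  show (i ^^^ j) ^^^ 1 = (i ^^^ 1) ^^^ j
  rw [Nat.xor_assoc, Nat.xor_comm j 1, ← Nat.xor_assoc]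

theorem xor_one_div (i : ℕ) : Nat.xor i 1 / 2 = i / 2 := by
  show (i ^^^ 1) / 2 = i / 2
  rw [Nat.xor_div_two]
  simp

theorem xor_one_mod (i : ℕ) : Nat.xor i 1 % 2 = Nat.xor (i % 2) 1 := by
  show (i ^^^ 1) % 2 = (i % 2) ^^^ 1
  rw [← pow_one 2, Nat.xor_mod_two_pow]

theorem xor_one_lt {i : ℕ} (hi : i < nA) : Nat.xor i 1 < nA := by
  have h := xor_one_div i
  rw [nA_eq] at hi ⊢
  omega

theorem pair_cases (i : ℕ) : i = 2 * (i / 2) ∨ i = Nat.xor (2 * (i / 2)) 1 := by
  have h1 := xor_one_div (2 * (i / 2))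
  have h2 := xor_one_mod (2 * (i / 2))
  rcases Nat.mod_two_eq_zero_or_one i with h | h
  · left; omega
  · right
    have h3 : Nat.xor (2 * (i / 2) % 2) 1 = 1 := by
      rw [Nat.mul_mod_right]; rfl
    omega

theorem imA_flip (s i : ℕ) : imA s (Nat.xor i 1) = Nat.xor (imA s i) 1 := by
  unfold imA
  rw [xor_one_div, xor_one_mod]
  exact (Nat.xor_assoc _ _ _).symm

theorem eA_flip (s i : ℕ) : eA s (Nat.xor i 1) = Nat.xor (eA s i) 1 := by
  rw [eA, eA, imA_flip]

theorem imA_spec {s i : ℕ} (hs : s < 10) (hi : i < nA) : imA s i < nA ∧ imA s (imA s i) = i := by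
  have h := List.all_eq_true.1 (chkA_all (i / 2) (by rw [nA_eq] at hi; omega)) s (List.mem_range.2 hs)
  rw [force_eq, Bool.and_eq_true] at h
  obtain ⟨h1, h2⟩ := h
  have h1' : imA s (2 * (i / 2)) < nA := Nat.le_of_ble_eq_true h1
  have h2' := Nat.eq_of_beq_eq_true h2
  rcases pair_cases i with e | e <;> rw [e]
  · exact ⟨h1', h2'⟩
  · rw [imA_flip, imA_flip, h2']
    exact ⟨xor_one_lt h1', rfl⟩

/-- The points. -/
abbrev Xp : Type := Fin M

/-- The first point. -/
def o0 : Xp := ⟨0, by rw [M_eq]; norm_num⟩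

/-- A neighbour of the first point. -/
def pP (p : Fin actA.N) : Xp := ⟨1 + p, by have h := lt_of_lt_of_eq p.2 N_eq; rw [M_eq]; omega⟩

/-- A point apart from the first. -/
def pA (i : Fin nA) : Xp := ⟨A0 + i, by have h := lt_of_lt_of_eq i.2 nA_eq; rw [M_eq, A0_eq]; omega⟩

theorem kinds (x : Xp) : x = o0 ∨ (∃ p, x = pP p) ∨ ∃ i, x = pA i := by
  have hx := lt_of_lt_of_eq x.2 M_eq
  rcases Nat.eq_zero_or_pos (x : ℕ) with h | h
  · exact Or.inl (Fin.ext h)
  by_cases h' : (x : ℕ) < A0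
  · rw [A0_eq] at h'
    exact Or.inr (Or.inl ⟨⟨x - 1, by rw [N_eq]; omega⟩, Fin.ext (by simp only [pP]; omega)⟩)
  · rw [A0_eq] at h'
    exact Or.inr (Or.inr ⟨⟨x - A0, by rw [nA_eq, A0_eq]; omega⟩,
      Fin.ext (by simp only [pA, A0_eq]; omega)⟩)

theorem pP_inj {p q : Fin actA.N} (h : pP p = pP q) : p = q :=
  Fin.ext (by have := congrArg Fin.val h; simp only [pP] at this; omega)

theorem pA_inj {i j : Fin nA} (h : pA i = pA j) : i = j :=
  Fin.ext (by have := congrArg Fin.val h; simp only [pA] at this; omega)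

theorem pP_ne_o0 (p : Fin actA.N) : pP p ≠ o0 := fun h => by
  have := congrArg Fin.val h; simp only [pP, o0] at this; omega

theorem pA_ne_o0 (i : Fin nA) : pA i ≠ o0 := fun h => by
  have := congrArg Fin.val h; simp only [pA, o0, A0_eq] at this; omega

theorem pA_ne_pP (i : Fin nA) (p : Fin actA.N) : pA i ≠ pP p := fun h => by
  have h' := congrArg Fin.val h
  have := lt_of_lt_of_eq p.2 N_eq
  simp only [pA, pP, A0_eq] at h'
  omega

theorem byKind_zero (z : ℕ) (p a : ℕ → ℕ) : byKind 0 z p a = z := rfl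

theorem byKind_P (q : Fin actA.N) (z : ℕ) (p a : ℕ → ℕ) : byKind (1 + q) z p a = p q := by
  have h := lt_of_lt_of_eq q.2 N_eq
  have h0 : Nat.beq (1 + (q : ℕ)) 0 = false :=
    Bool.eq_false_iff.2 fun e => by have := Nat.eq_of_beq_eq_true e; omega
  have h1 : Nat.blt (1 + (q : ℕ)) A0 = true := Nat.ble_eq_true_of_le (by rw [A0_eq]; omega)
  rw [byKind, h0, h1, cond_false, cond_true, force_eq, Nat.add_sub_cancel_left]

theorem byKind_A (i : ℕ) (z : ℕ) (p a : ℕ → ℕ) : byKind (A0 + i) z p a = a i := by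
  have h0 : Nat.beq (A0 + i) 0 = false :=
    Bool.eq_false_iff.2 fun e => by have := Nat.eq_of_beq_eq_true e; rw [A0_eq] at this; omega
  have h1 : Nat.blt (A0 + i) A0 = false :=
    Bool.eq_false_iff.2 fun e => by have := Nat.le_of_ble_eq_true e; omega
  rw [byKind, h0, h1, cond_false, cond_false, force_eq, Nat.add_sub_cancel_left]

/-- An involutive map of the indices. -/
def InvolOn (f : ℕ → ℕ) : Prop := ∀ x < M, f x < M ∧ f (f x) = x

/-- The involution of an involutive map. -/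
def toInvol (f : ℕ → ℕ) (h : InvolOn f) : Equiv.Perm Xp :=
  Function.Involutive.toPerm (fun x : Xp => (⟨f x, (h x x.2).1⟩ : Xp)) fun x => Fin.ext (h x x.2).2

/-- A permutation from a map of the indices. -/
noncomputable def permOf (f : ℕ → ℕ) : Equiv.Perm Xp :=
  @dite _ (InvolOn f) (_root_.Classical.propDecidable _) (toInvol f) fun _ => 1

theorem permOf_sq (f : ℕ → ℕ) : permOf f * permOf f = 1 := by
  by_cases h : InvolOn f
  · unfold permOf; rw [dif_pos h]
    exact Equiv.ext fun x => Fin.ext (show f (f x) = x from (h x x.2).2)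
  · unfold permOf; rw [dif_neg h]
    exact one_mul _

theorem permOf_apply {f : ℕ → ℕ} (h : InvolOn f) (x : Xp) : (permOf f x : ℕ) = f x := by
  unfold permOf
  rw [dif_pos h]
  rfl

theorem kim_spec (x : ℕ) (hx : x < M) : kimN x < M ∧ kimN (kimN x) = x ∧
    limN (kimN (limN (kimN (limN (kimN x))))) = x ∧ mimN 0 (kimN (mimN 0 (kimN (mimN 0 (kimN x))))) = x ∧
    ∀ s < 9, kimN (mimN (s + 1) x) = mimN (s + 1) (kimN x) := by
  have h := chkK_all x hx
  simp only [chkK, force_eq, Bool.and_eq_true, List.all_eq_true, List.mem_range] at h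
  obtain ⟨⟨⟨⟨h1, h2⟩, h3⟩, h4⟩, h5⟩ := h
  exact ⟨Nat.le_of_ble_eq_true h1, Nat.eq_of_beq_eq_true h2, Nat.eq_of_beq_eq_true h3,
    Nat.eq_of_beq_eq_true h4, fun s hs => Nat.eq_of_beq_eq_true (h5 s hs)⟩

theorem mim_spec {s : ℕ} (hs : s < 10) : InvolOn (mimN s) := fun x hx => by
  obtain hk | ⟨p, hk⟩ | ⟨i, hk⟩ := kinds ⟨x, hx⟩ <;> obtain rfl := congrArg Fin.val hk
  · exact ⟨by show mimN s 0 < M; rw [mimN, byKind_zero, M_eq]; norm_num, rfl⟩
  · have h := fun q => actA.perm_apply homA.inv (show s < actA.n from hs) q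
    simp only [pP]
    rw [mimN, byKind_P, ← h p]
    refine ⟨?_, ?_⟩
    · have := lt_of_lt_of_eq (actA.perm s p).2 N_eq; rw [M_eq]; omega
    · rw [mimN, byKind_P, ← h, ← Equiv.Perm.mul_apply, actA.perm_sq]; rfl
  · simp only [pA]
    rw [mimN, byKind_A]
    obtain ⟨h1, h2⟩ := imA_spec hs i.2
    refine ⟨?_, ?_⟩
    · have h1' := lt_of_lt_of_eq h1 nA_eq; rw [M_eq, A0_eq]; omega
    · rw [mimN, byKind_A, h2]

theorem lim_spec : InvolOn limN := fun x hx => by
  obtain hk | ⟨p, hk⟩ | ⟨i, hk⟩ := kinds ⟨x, hx⟩ <;> obtain rfl := congrArg Fin.val hk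
  · exact ⟨by show limN 0 < M; rw [limN, byKind_zero, M_eq]; norm_num, rfl⟩
  · simp only [pP]
    rw [limN, byKind_P]
    exact ⟨(pP p).2, by rw [limN, byKind_P]⟩
  · simp only [pA]
    rw [limN, byKind_A]
    refine ⟨?_, ?_⟩
    · have := lt_of_lt_of_eq (xor_one_lt i.2) nA_eq
      rw [M_eq, A0_eq]; omega
    · rw [limN, byKind_A, xor_one_xor_one]

theorem lim_zero : limN 0 = 0 := byKind_zero _ _ _
theorem lim_P (p : Fin actA.N) : limN (1 + p) = 1 + p := byKind_P p _ _ _
theorem lim_A (i : ℕ) : limN (A0 + i) = A0 + Nat.xor i 1 := byKind_A _ _ _ _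
theorem mim_zero (s : ℕ) : mimN s 0 = 0 := byKind_zero _ _ _
theorem mim_P (s : ℕ) (p : Fin actA.N) : mimN s (1 + p) = 1 + actA.im p s := byKind_P p _ _ _
theorem mim_A (s i : ℕ) : mimN s (A0 + i) = A0 + imA s i := byKind_A _ _ _ _

attribute [local irreducible] kimN limN mimN imA permOf

/-- The generator of index `s` on the points. -/
noncomputable def mP (s : ℕ) : Equiv.Perm Xp := permOf (mimN s)

/-- The transposition of the first point. -/
noncomputable def lam : Equiv.Perm Xp := permOf limN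

/-- The outer generator. -/
noncomputable def kap : Equiv.Perm Xp := permOf kimN

theorem mP_val {s : ℕ} (hs : s < 10) (x : Xp) : (mP s x : ℕ) = mimN s x := permOf_apply (mim_spec hs) x

theorem lam_val (x : Xp) : (lam x : ℕ) = limN x := permOf_apply lim_spec x

theorem kap_val (x : Xp) : (kap x : ℕ) = kimN x :=
  permOf_apply (f := kimN) (fun x hx => ⟨(kim_spec x hx).1, (kim_spec x hx).2.1⟩) x

theorem lam_sq : lam * lam = 1 := permOf_sq _

theorem kap_sq : kap * kap = 1 := permOf_sq _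

theorem lam_lam (x : Xp) : lam (lam x) = x := by rw [← Equiv.Perm.mul_apply, lam_sq, Equiv.Perm.one_apply]

theorem kap_kap (x : Xp) : kap (kap x) = x := by rw [← Equiv.Perm.mul_apply, kap_sq, Equiv.Perm.one_apply]

theorem lam_o0 : lam o0 = o0 := Fin.ext (by rw [lam_val]; exact lim_zero)

theorem lam_pP (p : Fin actA.N) : lam (pP p) = pP p := Fin.ext (by rw [lam_val]; exact lim_P p)

/-- The other point of a pair. -/
def flipA (i : Fin nA) : Fin nA := ⟨Nat.xor i 1, xor_one_lt i.2⟩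

theorem lam_pA (i : Fin nA) : lam (pA i) = pA (flipA i) := Fin.ext (by rw [lam_val]; exact lim_A i)

theorem mP_o0 {s : ℕ} (hs : s < 10) : mP s o0 = o0 := Fin.ext (by rw [mP_val hs]; exact mim_zero s)

theorem mP_pP {s : ℕ} (hs : s < 10) (p : Fin actA.N) : mP s (pP p) = pP (actA.perm s p) :=
  Fin.ext (by
    rw [mP_val hs]
    refine (mim_P s p).trans ?_
    rw [← actA.perm_apply homA.inv (show s < actA.n from hs) p]
    rfl)

theorem mP_pA {s : ℕ} (hs : s < 10) (i : Fin nA) :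
    mP s (pA i) = pA ⟨imA s i, (imA_spec hs i.2).1⟩ :=
  Fin.ext (by rw [mP_val hs]; exact mim_A s i)

theorem lam_mP {s : ℕ} (hs : s < 10) : Commute lam (mP s) := by
  refine Equiv.ext fun x => ?_
  simp only [Equiv.Perm.mul_apply]
  obtain rfl | ⟨p, rfl⟩ | ⟨i, rfl⟩ := kinds x
  · rw [mP_o0 hs, lam_o0, mP_o0 hs]
  · rw [mP_pP hs, lam_pP, lam_pP, mP_pP hs]
  · rw [mP_pA hs, lam_pA, lam_pA, mP_pA hs]
    exact congrArg pA (Fin.ext (imA_flip s i).symm)

theorem kap_mP {s : ℕ} (hs : s < 9) : Commute kap (mP (s + 1)) :=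
  Equiv.ext fun x => Fin.ext (by
    simp only [Equiv.Perm.mul_apply]
    rw [kap_val, mP_val (by omega), mP_val (by omega), kap_val]
    exact (kim_spec x x.2).2.2.2.2 s hs)

theorem braid_of {H : Type*} [Group H] {a b : H} (ha : a * a = 1) (hb : b * b = 1) (h : (a * b) ^ 3 = 1) :
    b * a * b = a * b * a := by
  have e : a * b * a * b * a * b = 1 := by rw [← h]; simp only [pow_succ, pow_zero, one_mul, mul_assoc]
  have ai : a⁻¹ = a := inv_eq_of_mul_eq_one_right ha
  have bi : b⁻¹ = b := inv_eq_of_mul_eq_one_right hb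
  calc b * a * b = (b * a * b) * (a * b * a * b * a * b)⁻¹ := by rw [e, inv_one, mul_one]
    _ = b * a * b * (b⁻¹ * a⁻¹ * b⁻¹) * (a⁻¹ * b⁻¹ * a⁻¹) := by group
    _ = a * b * a := by
      rw [show b * a * b * (b⁻¹ * a⁻¹ * b⁻¹) = 1 by group, one_mul, ai, bi]

theorem kap_lam : kap * lam * kap = lam * kap * lam :=
  braid_of lam_sq kap_sq (Equiv.ext fun x => Fin.ext (by
    simp only [pow_succ, pow_zero, one_mul, Equiv.Perm.mul_apply]
    rw [lam_val, kap_val, lam_val, kap_val, lam_val, kap_val]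
    exact (kim_spec x x.2).2.2.1))

theorem kap_mzero : kap * mP 0 * kap = mP 0 * kap * mP 0 :=
  braid_of (permOf_sq _) kap_sq (Equiv.ext fun x => Fin.ext (by
    simp only [pow_succ, pow_zero, one_mul, Equiv.Perm.mul_apply]
    rw [mP_val (by norm_num), kap_val, mP_val (by norm_num), kap_val, mP_val (by norm_num), kap_val]
    exact (kim_spec x x.2).2.2.2.1))

/-- The images of the generators of Fi23. -/
noncomputable def eP (s : ℕ) : Equiv.Perm Xp := if s < 10 then lam * mP s else 1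

theorem eP_sq (s : ℕ) : eP s * eP s = 1 := by
  unfold eP
  split_ifs with hs
  · rw [(lam_mP hs).symm.mul_mul_mul_comm, lam_sq, one_mul]; exact permOf_sq _
  · exact one_mul _

theorem eP_o0 (s : ℕ) : eP s o0 = o0 := by
  unfold eP
  split_ifs with hs
  · rw [Equiv.Perm.mul_apply, mP_o0 hs, lam_o0]
  · rfl

theorem eP_pP (s : ℕ) (p : Fin actA.N) : eP s (pP p) = pP (actA.perm s p) := by
  unfold eP
  split_ifs with hs
  · rw [Equiv.Perm.mul_apply, mP_pP hs, lam_pP]
  · rw [actA.perm_out s (by rw [n_eq]; omega)]; rfl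

theorem eP_pA {s : ℕ} (hs : s < 10) (i : Fin nA) : (eP s (pA i) : ℕ) = A0 + eA s i := by
  rw [eP, if_pos hs, Equiv.Perm.mul_apply, mP_pA hs, lam_pA]
  rfl

theorem goA_spec : ∀ (w : List ℕ), (∀ s ∈ w, s < 10) → ∀ i : Fin nA,
    ∃ h : goA w i < nA, ev eP w (pA i) = pA ⟨goA w i, h⟩ ∧ goA w (Nat.xor i 1) = Nat.xor (goA w i) 1
  | [], _, i => ⟨i.2, rfl, rfl⟩
  | s :: w, hw, i => by
    obtain ⟨h, e, f⟩ := goA_spec w (fun t ht => hw t (List.mem_cons_of_mem _ ht)) i
    have hs := hw s (List.mem_cons_self ..)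
    have hg : ∀ j, goA (s :: w) j = eA s (goA w j) := fun j => by simp only [goA, force_eq]
    have hlt : eA s (goA w i) < nA := xor_one_lt (imA_spec hs h).1
    refine ⟨by rw [hg]; exact hlt, ?_, by rw [hg, hg, f, eA_flip]⟩
    rw [ev, Equiv.Perm.mul_apply, e]
    exact Fin.ext (by rw [eP_pA hs]; simp only [pA, hg])

theorem words_lt : ∀ w ∈ Fi23.words, ∀ s ∈ w, s < 10 := fun _ hw =>
  Act.lt_of_lettersOk (n := 10) (by decide +kernel) hw

theorem ev_eP_words : ∀ w ∈ Fi23.words, ev eP w = 1 := by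
  intro w hw
  have hl := words_lt w hw
  refine Equiv.ext fun x => ?_
  rw [Equiv.Perm.one_apply]
  obtain rfl | ⟨p, rfl⟩ | ⟨i, rfl⟩ := kinds x
  · clear hl hw
    induction w with
    | nil => rfl
    | cons s w ih => rw [ev, Equiv.Perm.mul_apply, ih, eP_o0]
  · have e : ∀ v : List ℕ, ev eP v (pP p) = pP (ev actA.perm v p) := fun v => by
      induction v with
      | nil => rfl
      | cons s v ih => rw [ev, Equiv.Perm.mul_apply, ih, eP_pP, ev, Equiv.Perm.mul_apply]
    rw [e, actA.ev_rels homA.inv (by decide +kernel) Fi23.actA_rels w hw]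
    rfl
  · have hj : 2 * ((i : ℕ) / 2) < nA := by have := i.2; omega
    obtain ⟨h, e, f⟩ := goA_spec w hl ⟨_, hj⟩
    obtain ⟨h', e', -⟩ := goA_spec w hl i
    rw [e']
    refine congrArg pA (Fin.ext ?_)
    have hc : goA w (2 * ((i : ℕ) / 2)) = 2 * ((i : ℕ) / 2) :=
      Nat.eq_of_beq_eq_true (List.all_eq_true.1 (chkW_all ((i : ℕ) / 2) (by have := lt_of_lt_of_eq i.2 nA_eq; omega)) w hw)
    show goA w i = i
    rcases pair_cases i with q | q <;> rw [q]
    · exact hc
    · exact f.trans (congrArg (Nat.xor · 1) hc)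

theorem exists_phi : ∃ π : Spor.Fi23 →* Equiv.Perm Xp, ∀ s, π (g s) = eP s :=
  Fi23.pres.exists_hom eP eP_sq ev_eP_words fun s hs => if_neg (by simpa [Fi23.alph] using hs)

/-- The action of Fi23. -/
noncomputable def phi : Spor.Fi23 →* Equiv.Perm Xp := exists_phi.choose

theorem phi_g (s : ℕ) : phi (g s) = eP s := exists_phi.choose_spec s

theorem fi23_induction {P : Spor.Fi23 → Prop} (h1 : P 1) (hm : ∀ x y, P x → P y → P (x * y))
    (hg : ∀ s < 10, P (g s)) (y : Spor.Fi23) : P y := by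
  have hy : y ∈ Subgroup.closure {x | ∃ s < 10, g s = x} := by rw [g_gen]; trivial
  induction hy using Subgroup.closure_induction'' with
  | mem x hx => obtain ⟨s, hs, rfl⟩ := hx; exact hg s hs
  | inv_mem x hx =>
    obtain ⟨s, hs, rfl⟩ := hx
    rw [inv_eq_of_mul_eq_one_right (g_sq s)]
    exact hg s hs
  | one => exact h1
  | mul x y _ _ hx hy => exact hm x y hx hy

theorem phi_o0 (y : Spor.Fi23) : phi y o0 = o0 :=
  fi23_induction (P := fun y => phi y o0 = o0) (by rw [map_one]; rfl)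
    (fun x y hx hy => by rw [map_mul, Equiv.Perm.mul_apply, hy, hx]) (fun s _ => by rw [phi_g, eP_o0]) y

theorem phi_pP (y : Spor.Fi23) : ∀ p, phi y (pP p) = pP (piA y p) :=
  fi23_induction (P := fun y => ∀ p, phi y (pP p) = pP (piA y p)) (fun p => by rw [map_one, map_one]; rfl)
    (fun x y hx hy p => by rw [map_mul, map_mul, Equiv.Perm.mul_apply, hy, hx, Equiv.Perm.mul_apply])
    (fun s _ p => by rw [phi_g, eP_pP, homA.gen]) y

theorem lam_phi (y : Spor.Fi23) : Commute lam (phi y) :=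
  fi23_induction (P := fun y => Commute lam (phi y)) (by rw [map_one]; exact Commute.one_right _)
    (fun x y hx hy => by rw [map_mul]; exact hx.mul_right hy)
    (fun s hs => by rw [phi_g, eP, if_pos hs]; exact (Commute.refl _).mul_right (lam_mP hs)) y

/-- Fi23 × 2. -/
abbrev HH : Type := Spor.Fi23 × Multiplicative (ZMod 2)

/-- The central element. -/
def sgn : Multiplicative (ZMod 2) := Multiplicative.ofAdd 1

theorem sgn_sq : sgn * sgn = 1 := by decide

theorem sgn_cases (e : Multiplicative (ZMod 2)) : e = 1 ∨ e = sgn := by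
  revert e; decide

theorem one_ne_sgn : (1 : Multiplicative (ZMod 2)) ≠ sgn := by decide

/-- The value of the second factor. -/
noncomputable def cz (e : Multiplicative (ZMod 2)) : Equiv.Perm Xp := if e = 1 then 1 else lam

theorem cz_one : cz 1 = 1 := if_pos rfl

theorem cz_sgn : cz sgn = lam := if_neg fun h => one_ne_sgn h.symm

theorem cz_phi (e : Multiplicative (ZMod 2)) (y : Spor.Fi23) : Commute (cz e) (phi y) := by
  rcases sgn_cases e with rfl | rfl
  · rw [cz_one]; exact Commute.one_left _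
  · rw [cz_sgn]; exact lam_phi y

/-- The action of Fi23 × 2. -/
noncomputable def inc : HH →* Equiv.Perm Xp :=
  MonoidHom.mk' (fun h => phi h.1 * cz h.2) fun a b => by
    have hc : cz (a.2 * b.2) = cz a.2 * cz b.2 := by
      rcases sgn_cases a.2 with ha | ha <;> rcases sgn_cases b.2 with hb | hb <;>
        simp only [ha, hb, one_mul, mul_one, sgn_sq, cz_one, cz_sgn, lam_sq]
    show phi (a.1 * b.1) * cz (a.2 * b.2) = phi a.1 * cz a.2 * (phi b.1 * cz b.2)
    rw [map_mul, hc, mul_assoc (phi a.1), mul_assoc (phi a.1), ← mul_assoc (cz a.2) (phi b.1),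
      (cz_phi a.2 b.1).eq, mul_assoc]

theorem inc_apply (h : HH) : inc h = phi h.1 * cz h.2 := rfl

theorem inc_central : inc (1, sgn) = lam := by rw [inc_apply, map_one, cz_sgn, one_mul]

theorem lam_inc (h : HH) : Commute lam (inc h) :=
  inc_central ▸ (show Commute ((1, sgn) : HH) h from
    Prod.ext (by simp) (mul_comm _ _)).map inc

theorem inc_o0 (h : HH) : inc h o0 = o0 := by
  rw [inc_apply, Equiv.Perm.mul_apply]
  rcases sgn_cases h.2 with e | e <;> rw [e]
  · rw [cz_one, Equiv.Perm.one_apply, phi_o0]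
  · rw [cz_sgn, lam_o0, phi_o0]

theorem inc_pP (h : HH) (p : Fin actA.N) : inc h (pP p) = pP (piA h.1 p) := by
  rw [inc_apply, Equiv.Perm.mul_apply]
  rcases sgn_cases h.2 with e | e <;> rw [e]
  · rw [cz_one, Equiv.Perm.one_apply, phi_pP]
  · rw [cz_sgn, lam_pP, phi_pP]

theorem inc_g {s : ℕ} (hs : s < 10) : inc (g s, sgn) = mP s := by
  rw [inc_apply, phi_g, cz_sgn, eP, if_pos hs, mul_assoc, ← (lam_mP hs).eq, ← mul_assoc, lam_sq, one_mul]

/-- The transposition of a neighbour in Fi23 × 2. -/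
noncomputable def tH (p : Fin actA.N) : HH := (dp p, sgn)

theorem tH_conj (h : HH) (p : Fin actA.N) : h * tH p * h⁻¹ = tH (piA h.1 p) := by
  refine Prod.ext ?_ ?_
  · exact (dp_equivariant h.1 p).symm
  · show h.2 * sgn * h.2⁻¹ = sgn
    rw [mul_right_comm, mul_inv_cancel, one_mul]

end Cfsg.Agent.Fus.Fi24Model
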