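import Cfsg.Agent.Lib.Fus.Fi24Model.Relations
import Cfsg.Agent.Lib.Fus.Fi24Model.Types
import Cfsg.Agent.Lib.Spor.Cos.Cox
import Cfsg.Prelude.Def_Spor_Fi24

/-! The model is an image of the presented group Fi24. -/

set_option autoImplicit false
set_option linter.style.haveILetI false
set_option maxRecDepth 100000

open Cfsg
open Cfsg.Agent.Spor.Cos

namespace Cfsg.Agent.Fus.Fi24Model

attribute [local irreducible] kimN limN mimN imA permOf

/-- The place of a generator of the presented group in the order l, k, a, b, c, d, e, f, g, j, h, i. -/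
def num24 : Spor.Fi24.Gen → ℕ
  | .l => 0
  | .k => 1
  | .a => 2
  | .b => 3
  | .c => 4
  | .d => 5
  | .e => 6
  | .f => 7
  | .g => 8
  | .j => 9
  | .h => 10
  | .i => 11

theorem num24_lt (a : Spor.Fi24.Gen) : num24 a < 12 := by cases a <;> decide

theorem rels_ok : ((relList Spor.Fi24.edges Spor.Fi24.extra).all fun r =>
    (letters num24 r).all (fun s => Nat.blt s 12) &&
      ([0, A0, 1, 2, 3, 4, 5, 6, 7, 9, 10].all fun x => Nat.beq (go12 (letters num24 r) x) x)) = true := by
  decide +kernel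

theorem eq_one_of_base {w : List ℕ} (hl : (w.all fun s => Nat.blt s 12) = true)
    (hc : ([0, A0, 1, 2, 3, 4, 5, 6, 7, 9, 10].all fun x => Nat.beq (go12 w x) x) = true) : ev gen12 w = 1 := by
  have hl' : ∀ s ∈ w, s < 12 := fun s hs => Nat.le_of_ble_eq_true (List.all_eq_true.1 hl s hs)
  have hf : ∀ x : Xp, (x : ℕ) ∈ [0, A0, 1, 2, 3, 4, 5, 6, 7, 9, 10] → ev gen12 w x = x := fun x hx =>
    Fin.ext ((ev12_val _ hl' x).trans (Nat.eq_of_beq_eq_true (List.all_eq_true.1 hc _ hx)))
  refine fix_eq_one (ev_mem _ fun s hs => gen12_GG (hl' s hs)) (hf _ (by simp [o0]))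
    (hf _ (by simp [cpt, pA])) fun p hp => hf _ ?_
  simp only [List.mem_cons, List.not_mem_nil, or_false, pP] at hp ⊢
  omega

theorem gen12_sq {s : ℕ} (hs : s < 12) : gen12 s * gen12 s = 1 := by
  match s, hs with
  | 0, _ => exact lam_sq
  | 1, _ => exact kap_sq
  | s + 2, _ => exact mP_sq s

/-- The presented group maps onto the model, the generators going to the twelve involutions. -/
theorem exists_hom24 : ∃ π : Spor.Fi24 →* ↥GG, Function.Surjective π ∧
    ∀ a, ((π (PresentedGroup.of a) : ↥GG) : Equiv.Perm Xp) = gen12 (num24 a) := by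
  let f : Spor.Fi24.Gen → ↥GG := fun a => ⟨gen12 (num24 a), gen12_GG (num24_lt a)⟩
  have hrel : ∀ r ∈ Spor.coxRelators Spor.Fi24.edges ∪ {r | r ∈ Spor.Fi24.extra}, FreeGroup.lift f r = 1 := by
    intro r hr
    refine Subtype.ext ?_
    show (GG.subtype.comp (FreeGroup.lift f)) r = 1
    rw [map_ev (GG.subtype.comp (FreeGroup.lift f)) gen12 num24 (fun a => by
      rw [MonoidHom.comp_apply, FreeGroup.lift_apply_of]; rfl) (fun a => gen12_sq (num24_lt a))]
    have h := List.all_eq_true.1 rels_ok r (mem_relList.2 hr)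
    rw [Bool.and_eq_true] at h
    exact eq_one_of_base h.1 h.2
  refine ⟨PresentedGroup.toGroup hrel, ?_, fun a => congrArg Subtype.val (PresentedGroup.toGroup.of hrel)⟩
  rw [← MonoidHom.range_eq_top, ← (Subgroup.map_injective GG.subtype_injective).eq_iff,
    ← MonoidHom.range_eq_map GG.subtype, Subgroup.range_subtype]
  set R := ((PresentedGroup.toGroup hrel).range).map GG.subtype
  have hgen : ∀ a, gen12 (num24 a) ∈ R := fun a =>
    ⟨f a, ⟨PresentedGroup.of a, PresentedGroup.toGroup.of hrel⟩, rfl⟩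
  have hm : ∀ s < 10, inc (Fi23.g s, sgn) ∈ R := fun s hs => by
    rw [inc_g hs]
    interval_cases s
    exacts [hgen .a, hgen .b, hgen .c, hgen .d, hgen .e, hgen .f, hgen .g, hgen .j, hgen .h, hgen .i]
  have hl : inc (1, sgn) ∈ R := by rw [inc_central]; exact hgen .l
  have hy : ∀ y, inc (y, 1) ∈ R := fun y => by
    refine fi23_induction (P := fun y => inc (y, 1) ∈ R) ?_ (fun a b ha hb => ?_) (fun s hs => ?_) y
    · rw [show ((1, 1) : HH) = 1 from rfl, map_one]; exact one_mem _
    · rw [show ((a * b, 1) : HH) = (a, 1) * (b, 1) from Prod.ext rfl (one_mul _).symm, map_mul]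
      exact mul_mem ha hb
    · rw [show ((Fi23.g s, 1) : HH) = (Fi23.g s, sgn) * (1, sgn) from Prod.ext (mul_one _).symm sgn_sq.symm,
        map_mul]
      exact mul_mem (hm s hs) hl
  refine le_antisymm (by rw [Subgroup.map_le_iff_le_comap]; exact fun a _ => a.2) ((Subgroup.closure_le _).2 ?_)
  rintro _ (⟨⟨y, e⟩, rfl⟩ | rfl)
  · rcases sgn_cases e with rfl | rfl
    · exact hy y
    · rw [show ((y, sgn) : HH) = (y, 1) * (1, sgn) from Prod.ext (mul_one _).symm (one_mul _).symm, map_mul]
      exact mul_mem (hy y) hl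
  · exact hgen .k

end Cfsg.Agent.Fus.Fi24Model
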