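import Cfsg.Agent.Lib.Fus.Fi24Model.Group

/-! The relations of the twelve generators of the model in the diagram Y542. -/

set_option autoImplicit false
set_option linter.style.haveILetI false
set_option maxRecDepth 100000

open Cfsg.Agent.Spor.Cos
open Cfsg.Agent.Spor.Cos.Fi23 (actA piA g g_words)

namespace Cfsg.Agent.Fus.Fi24Model

attribute [local irreducible] kimN limN mimN imA permOf

/-- An element of the group fixing the first point, the apart point and nine neighbours is trivial. -/
theorem fix_eq_one {a : Equiv.Perm Xp} (ha : a ∈ GG) (h0 : a o0 = o0) (h1 : a cpt = cpt)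
    (hP : ∀ p : Fin actA.N, (p : ℕ) ∈ [0, 1, 2, 3, 4, 5, 6, 8, 9] → a (pP p) = pP p) : a = 1 := by
  obtain ⟨⟨y, e⟩, rfl⟩ := stab_zero ha h0
  obtain rfl : y = 1 := Fi23.det y fun p hp => pP_inj ((inc_pP (y, e) p).symm.trans (hP p hp))
  rcases sgn_cases e with rfl | rfl
  · exact map_one inc
  · exfalso
    rw [inc_central, lam_cpt] at h1
    exact absurd (congrArg Fin.val (pA_inj h1)) Nat.one_ne_zero

/-- The generators in the order l, k, a, b, c, d, e, f, g, j, h, i. -/
noncomputable def gen12 : ℕ → Equiv.Perm Xp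
  | 0 => lam
  | 1 => kap
  | s + 2 => mP s

/-- The maps of the indices of the generators. -/
noncomputable def im12 : ℕ → ℕ → ℕ
  | 0 => limN
  | 1 => kimN
  | s + 2 => mimN s

/-- Apply a word, its last letter first. -/
noncomputable def go12 (w : List ℕ) (x : ℕ) : ℕ :=
  List.rec (motive := fun _ => ℕ) x (fun s _ r => force r fun q => im12 s q) w

theorem gen12_GG {s : ℕ} (hs : s < 12) : gen12 s ∈ GG := by
  match s, hs with
  | 0, _ => exact lam_GG
  | 1, _ => exact kap_GG
  | s + 2, hs => rw [gen12, ← inc_g (show s < 10 by omega)]; exact inc_GG _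

theorem gen12_val {s : ℕ} (hs : s < 12) (x : Xp) : (gen12 s x : ℕ) = im12 s x := by
  match s, hs with
  | 0, _ => exact lam_val x
  | 1, _ => exact kap_val x
  | s + 2, hs => exact mP_val (by omega) x

theorem ev12_val : ∀ w : List ℕ, (∀ s ∈ w, s < 12) → ∀ x : Xp, (ev gen12 w x : ℕ) = go12 w x
  | [], _, _ => rfl
  | s :: w, hw, x => by
    rw [ev, Equiv.Perm.mul_apply, gen12_val (hw s (List.mem_cons_self ..)),
      ev12_val w (fun t ht => hw t (List.mem_cons_of_mem _ ht)) x]
    simp only [go12, force_eq]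

/-- The word along the three arms. -/
def spiderW : List ℕ := [5, 4, 3, 2, 1, 0, 5, 6, 7, 8, 9, 5, 10, 11]

/-- The seventeenth power of the word along the three arms. -/
def spider17 : List ℕ := (List.replicate 17 spiderW).flatten

theorem spider_ok : ([0, A0, 1, 2, 3, 4, 5, 6, 7, 9, 10].all fun x => Nat.beq (go12 spider17 x) x) = true := by
  decide +kernel

theorem spider : ev gen12 spiderW ^ 17 = 1 := by
  rw [← ev_power]
  have hl : ∀ s ∈ spider17, s < 12 := by decide +kernel
  have hf : ∀ x : Xp, (x : ℕ) ∈ [0, A0, 1, 2, 3, 4, 5, 6, 7, 9, 10] → ev gen12 spider17 x = x := fun x hx =>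
    Fin.ext ((ev12_val _ hl x).trans (Nat.eq_of_beq_eq_true (List.all_eq_true.1 spider_ok _ hx)))
  refine fix_eq_one (ev_mem _ fun s hs => gen12_GG (hl s hs)) (hf _ (by simp [o0]))
    (hf _ (by simp [cpt, pA])) fun p hp => hf _ ?_
  simp only [List.mem_cons, List.not_mem_nil, or_false, pP] at hp ⊢
  omega

theorem e7_word : ev gen12 ((List.replicate 9 [2, 3, 4, 5, 6, 7, 10]).flatten) = lam := by
  have hl : ∀ v : List ℕ, (∀ s ∈ v, s < 10) → ev gen12 (v.map (· + 2)) = inc (ev g v, sgn ^ v.length) := fun v => by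
    induction v with
    | nil => exact fun _ => (map_one inc).symm
    | cons s v ih =>
      intro h
      rw [List.map_cons, ev, ih fun t ht => h t (List.mem_cons_of_mem _ ht), ev, List.length_cons, pow_succ',
        show gen12 (s + 2) = mP s from rfl, ← inc_g (h s (List.mem_cons_self ..)), ← map_mul]
      rfl
  have hw : (List.replicate 9 [0, 1, 2, 3, 4, 5, 8]).flatten ∈ Fi23.words := by decide +kernel
  have := hl _ (words_lt _ hw)
  rw [g_words _ hw] at this
  rw [← inc_central]
  exact (congrArg (ev gen12) (by decide)).trans (this.trans (congrArg inc (Prod.ext rfl (by decide))))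

end Cfsg.Agent.Fus.Fi24Model
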