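import Cfsg.Agent.Lib.Fus.Fi24Model.Outer
import Cfsg.Agent.Lib.Fus.M23U.Triality.Main
import Cfsg.Agent.Lib.Spor.Cos.Fi23.IsSimple

/-! The stabiliser of the apart point in Fi23 × 2. -/

set_option autoImplicit false
set_option linter.style.haveILetI false
set_option maxRecDepth 100000

open Cfsg.Agent.Spor.Cos
open Cfsg.Agent.Spor.Cos.Fi23 (actA piA homA g g_sq)
open Cfsg.Agent.Fus.M23U.TypeOf (dp)
open Cfsg.Agent.Fus.M23U.Triality (pt ge gi HB NB d_HB ge_HB ge_letter ge_eq ge_sq)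

namespace Cfsg.Agent.Fus.Fi24Model

attribute [local instance] Cfsg.Agent.Spor.Cos.Fi23.finite
attribute [local irreducible] kimN limN mimN imA permOf

/-- The preimage of the group of three blocks generated by transpositions. -/
noncomputable def Lh : Subgroup HH := Subgroup.closure {x | ∃ k < 10, (ge k, sgn) = x}

theorem inc_ge {k : ℕ} (hk : k < 9) : inc (ge k, sgn) = mP (k + 1) := by
  rw [ge_letter hk, inc_g (by omega)]

theorem inc_ge_nine : inc (ge 9, sgn) = Tp e9 := by rw [Tp, tH, dp_e9]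

theorem Lh_le {S : Subgroup (Equiv.Perm Xp)} (h : ∀ k < 9, mP (k + 1) ∈ S) (h9 : Tp e9 ∈ S) :
    Lh ≤ S.comap inc := by
  refine (Subgroup.closure_le _).2 ?_
  rintro _ ⟨k, hk, rfl⟩
  rw [SetLike.mem_coe, Subgroup.mem_comap]
  rcases Nat.lt_or_ge k 9 with h' | h'
  · rw [inc_ge h']; exact h k h'
  · obtain rfl : k = 9 := by omega
    rw [inc_ge_nine]; exact h9

theorem Lh_kap {h : HH} (hh : h ∈ Lh) : Commute kap (inc h) := by
  have := Lh_le (S := Subgroup.centralizer {kap})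
    (fun k hk => Subgroup.mem_centralizer_singleton_iff.2 (kap_mP hk).eq.symm)
    (Subgroup.mem_centralizer_singleton_iff.2 kap_e9.eq.symm) hh
  exact (Subgroup.mem_centralizer_singleton_iff.1 this).symm

theorem Lh_cpt {h : HH} (hh : h ∈ Lh) : inc h cpt = cpt :=
  Lh_le (S := MulAction.stabilizer (Equiv.Perm Xp) cpt) (fun _ hk => mP_cpt hk) e9_cpt hh

theorem Lh_map : Lh.map (MonoidHom.fst Spor.Fi23 (Multiplicative (ZMod 2))) = HB := by
  rw [Lh, MonoidHom.map_closure]
  congr 1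
  ext x
  constructor
  · rintro ⟨_, ⟨k, hk, rfl⟩, rfl⟩; exact ⟨k, hk, rfl⟩
  · rintro ⟨k, hk, rfl⟩; exact ⟨_, ⟨k, hk, rfl⟩, rfl⟩

theorem tH_mem {j : ℕ} (hj : j < 3240) : tH (pt j) ∈ Lh := by
  obtain ⟨-, y, hy, e⟩ := d_HB hj
  rw [← Lh_map] at hy
  obtain ⟨y', hy', rfl⟩ := hy
  have h6 : ((ge 6, sgn) : HH) ∈ Lh := Subgroup.subset_closure ⟨6, by norm_num, rfl⟩
  rw [M23U.Triality.d_zero] at e
  have : tH (pt j) = y' * (ge 6, sgn) * y'⁻¹ := by
    refine Prod.ext e.symm ?_
    show sgn = y'.2 * sgn * y'.2⁻¹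
    rw [mul_right_comm, mul_inv_cancel, one_mul]
  rw [this]
  exact mul_mem (mul_mem hy' h6) (inv_mem hy')

theorem card_HB : Nat.card ↥HB = 6 * 4952179814400 := by
  obtain ⟨e⟩ := M23U.Triality.nb_spec.1
  have hN : Nat.card ↥(NB.subgroupOf HB) = 4952179814400 := by
    rw [Nat.card_congr (Subgroup.subgroupOfEquivOfLe (M23U.Triality.NB_le.trans M23U.Triality.KB_le)).toEquiv,
      Nat.card_congr e.toEquiv, M23U.Triality.card_pomega]
  rw [← (M23U.Triality.rhoB.ker).card_mul_index, Subgroup.index_ker,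
    MonoidHom.range_eq_top.2 M23U.Triality.rhoB_surj, M23U.Triality.rhoB_ker, hN, Subgroup.card_top,
    Nat.card_eq_fintype_card, Fintype.card_perm, Fintype.card_fin]
  decide

theorem card_HH : Nat.card HH = 2 * 4089470473293004800 := by
  rw [Nat.card_prod, Fi23.card_eq, Nat.card_congr Multiplicative.toAdd, Nat.card_zmod, mul_comm]

theorem orbit_cpt (i : Fin nA) : ∃ h, inc h cpt = pA i := by
  rcases shapes i with h | h | ⟨q, hq, h | h | ⟨r, hr, h⟩⟩ <;> rw [h]
  · exact ⟨1, by rw [map_one]; rfl⟩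
  · exact ⟨(1, sgn), by rw [inc_central, lam_cpt]⟩
  · exact ⟨tH q, (kap_out q hq).1.symm⟩
  · exact ⟨(1, sgn) * tH q, by rw [map_mul, inc_central, Equiv.Perm.mul_apply, (kap_out q hq).1]; rfl⟩
  · exact ⟨tH q * tH r, by rw [map_mul, Equiv.Perm.mul_apply, (kap_out r hr).1]; rfl⟩

theorem inc_apart (h : HH) (i : Fin nA) : ∃ j, inc h (pA i) = pA j := by
  obtain e | ⟨p, e⟩ | hj := kinds (inc h (pA i))
  · exact absurd ((inc h).injective (e.trans (inc_o0 h).symm)) (pA_ne_o0 i)
  · refine absurd ?_ (pA_ne_pP i (piA h.1⁻¹ p))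
    refine (inc h).injective (e.trans ?_)
    rw [inc_pP, map_inv]
    exact congrArg pP ((piA h.1).apply_symm_apply p).symm
  · exact hj

/-- The stabiliser. -/
noncomputable def Sh : Subgroup HH := (MulAction.stabilizer (Equiv.Perm Xp) cpt).comap inc

theorem Sh_index : Sh.index = 275264 := by
  letI : MulAction HH Xp := MulAction.compHom Xp inc
  have hs : Sh = MulAction.stabilizer HH cpt := rfl
  have ho : MulAction.orbit HH cpt = Set.range pA := by
    ext x
    constructor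
    · rintro ⟨h, rfl⟩
      obtain ⟨j, hj⟩ := inc_apart h ⟨0, by rw [nA_eq]; norm_num⟩
      exact ⟨j, hj.symm⟩
    · rintro ⟨i, rfl⟩
      exact orbit_cpt i
  rw [hs, MulAction.index_stabilizer, ho, Set.ncard_range_of_injective fun _ _ => pA_inj, Nat.card_fin, nA_eq]

theorem Lh_eq : Lh = Sh := by
  have hle : Lh ≤ Sh := fun h hh => Lh_cpt hh
  have hSh : Nat.card ↥Sh = 6 * 4952179814400 := by
    have h := Sh.card_mul_index
    rw [Sh_index, card_HH] at h
    exact Nat.eq_of_mul_eq_mul_right (by norm_num : 0 < 275264) (h.trans (by norm_num))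
  refine Subgroup.eq_of_le_of_card_ge hle ?_
  rw [hSh, ← card_HB, ← Lh_map]
  exact Nat.le_of_dvd Nat.card_pos (Subgroup.card_map_dvd _ _)

/-- An element fixing the apart point commutes with the outer generator. -/
theorem fix_kap {h : HH} (hh : inc h cpt = cpt) : Commute kap (inc h) := Lh_kap (Lh_eq ▸ (hh : h ∈ Sh))

end Cfsg.Agent.Fus.Fi24Model
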