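import Cfsg.Agent.Lib.Fus.Fi24Model.Stab

/-! The transpositions of all points. -/

set_option autoImplicit false
set_option linter.style.haveILetI false
set_option maxRecDepth 100000

open Cfsg.Agent.Spor.Cos
open Cfsg.Agent.Spor.Cos.Fi23 (actA piA)

namespace Cfsg.Agent.Fus.Fi24Model

attribute [local irreducible] kimN limN mimN imA permOf

/-- The point of an index of either kind. -/
noncomputable def conjKap (i : Fin nA) : Equiv.Perm Xp :=
  inc (orbit_cpt i).choose * kap * (inc (orbit_cpt i).choose)⁻¹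

/-- The transposition of a point. -/
noncomputable def T (x : Xp) : Equiv.Perm Xp :=
  @dite _ (∃ p, x = pP p) (_root_.Classical.propDecidable _) (fun h => Tp h.choose) fun _ =>
    @dite _ (∃ i, x = pA i) (_root_.Classical.propDecidable _) (fun h => conjKap h.choose) fun _ => lam

theorem T_o0 : T o0 = lam := by
  rw [T, dif_neg fun ⟨p, h⟩ => pP_ne_o0 p h.symm, dif_neg fun ⟨i, h⟩ => pA_ne_o0 i h.symm]

theorem T_pP (p : Fin actA.N) : T (pP p) = Tp p := by
  have h : ∃ q, pP p = pP q := ⟨p, rfl⟩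
  rw [T, dif_pos h, ← pP_inj h.choose_spec]

theorem T_orbit {h : HH} {i : Fin nA} (e : inc h cpt = pA i) : T (pA i) = inc h * kap * (inc h)⁻¹ := by
  have h2 : ∃ j, pA i = pA j := ⟨i, rfl⟩
  rw [T, dif_neg fun ⟨p, h⟩ => pA_ne_pP i p h, dif_pos h2, ← pA_inj h2.choose_spec, conjKap]
  set h' := (orbit_cpt i).choose
  have e' : inc h' cpt = pA i := (orbit_cpt i).choose_spec
  have hf : inc (h⁻¹ * h') cpt = cpt := by
    rw [map_mul, map_inv, Equiv.Perm.mul_apply, e', ← e]
    exact (inc h).symm_apply_apply _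
  have hc := (fix_kap hf).eq
  rw [map_mul, map_inv] at hc
  have := congrArg (fun t => inc h * t * (inc h')⁻¹) hc
  simp only [← mul_assoc, mul_inv_cancel, one_mul, mul_inv_cancel_right] at this
  exact this.symm

theorem T_cpt : T cpt = kap := by
  rw [cpt, T_orbit (h := 1) (by rw [map_one]; rfl), map_one, one_mul, inv_one, mul_one]

theorem T_inc (h : HH) (x : Xp) : inc h * T x * (inc h)⁻¹ = T (inc h x) := by
  obtain rfl | ⟨p, rfl⟩ | ⟨i, rfl⟩ := kinds x
  · rw [inc_o0, T_o0, ← (lam_inc h).eq, mul_inv_cancel_right]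
  · rw [inc_pP, T_pP, T_pP, inc_conj_Tp]
  · obtain ⟨k, hk⟩ := orbit_cpt i
    obtain ⟨j, hj⟩ := inc_apart h i
    rw [hj, T_orbit hk, T_orbit (h := h * k) (by rw [map_mul, Equiv.Perm.mul_apply, hk, hj]), map_mul]
    group

theorem T_lam (x : Xp) : lam * T x * lam = T (lam x) := by
  have h := T_inc (1, sgn) x
  rwa [inc_central, inv_eq_of_mul_eq_one_right lam_sq] at h

theorem T_Tp (p : Fin actA.N) (x : Xp) : Tp p * T x * Tp p = T (Tp p x) := by
  have h := T_inc (tH p) x
  rwa [show inc (tH p) = Tp p from rfl, Tp_inv] at h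

theorem flip_kap {a b : Equiv.Perm Xp} (h : kap * a * kap = b) : kap * b * kap = a := by
  rw [← h, mul_assoc, mul_assoc, mul_assoc, kap_sq, mul_one, ← mul_assoc, kap_sq, one_mul]

theorem kap_kap_mul (a : Equiv.Perm Xp) : kap * (kap * a) = a := by rw [← mul_assoc, kap_sq, one_mul]

theorem kap_conj_pP (p : Fin actA.N) : kap * T (pP p) * kap = T (kap (pP p)) := by
  rcases Bool.eq_false_or_eq_true (inW p) with h | h
  · obtain ⟨j, hj, rfl⟩ := exists_pt h
    rw [kap_inW h, T_pP]
    have := (Lh_kap (tH_mem hj)).eq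
    rw [show inc (tH (M23U.Triality.pt j)) = Tp (M23U.Triality.pt j) from rfl] at this
    rw [this, mul_assoc, kap_sq, mul_one]
  · obtain ⟨h1, -, h3⟩ := kap_out p h
    rw [T_pP, h3, h1]
    show Tp p * kap * Tp p = T (Tp p cpt)
    rw [← T_Tp, T_cpt]

/-- The outer generator permutes the transpositions. -/
theorem T_kap (x : Xp) : kap * T x * kap = T (kap x) := by
  obtain rfl | ⟨p, rfl⟩ | ⟨i, rfl⟩ := kinds x
  · rw [T_o0, kap_o0, ← lam_cpt, ← T_lam, T_cpt, kap_lam]
  · exact kap_conj_pP p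
  rcases shapes i with h | h | ⟨q, hq, h | h | ⟨r, hr, h⟩⟩ <;> rw [h]
  · rw [kap_cpt, T_cpt, kap_sq, one_mul]
  · rw [kap_lcp, T_o0]
    refine flip_kap ?_
    rw [kap_lam, ← lam_cpt, ← T_lam, T_cpt]
  · rw [kap_kap]
    exact flip_kap (kap_conj_pP q)
  · rw [(kap_out q hq).2.1, ← T_lam, ← kap_conj_pP, T_pP]
    have hc := (lam_Tp q).eq
    have hb : kap * lam * kap = lam * kap * lam := kap_lam
    calc kap * (lam * (kap * Tp q * kap) * lam) * kap
        = (kap * lam * kap) * Tp q * (kap * lam * kap) := by simp only [mul_assoc]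
      _ = (lam * kap * lam) * Tp q * (lam * kap * lam) := by rw [hb]
      _ = lam * kap * (lam * Tp q * lam) * kap * lam := by simp only [mul_assoc]
      _ = lam * (kap * Tp q * kap) * lam := by
        rw [hc, mul_assoc (Tp q) lam lam, lam_sq, mul_one]; simp only [mul_assoc]
  · have hb := (kap_out q hq).2.2
    have hz : ∀ y, kap (Tp q (kap y)) = Tp q (kap (Tp q y)) := fun y => by
      have := congrArg (fun t : Equiv.Perm Xp => t y) hb
      simpa only [Equiv.Perm.mul_apply] using this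
    rw [← T_Tp, ← kap_conj_pP, T_pP, hz, Tp_pP, ← T_Tp, ← kap_conj_pP, T_pP, ← Tp_conj_Tp]
    calc kap * (Tp q * (kap * Tp r * kap) * Tp q) * kap
        = (kap * Tp q * kap) * Tp r * (kap * Tp q * kap) := by simp only [mul_assoc]
      _ = (Tp q * kap * Tp q) * Tp r * (Tp q * kap * Tp q) := by rw [hb]
      _ = Tp q * (kap * (Tp q * Tp r * Tp q) * kap) * Tp q := by simp only [mul_assoc]

end Cfsg.Agent.Fus.Fi24Model
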