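import Cfsg.Agent.Lib.Fus.Fi24Model.Perms
import Cfsg.Agent.Lib.Fus.M23U.Triality.Blocks

/-! Base facts and induction along the search trees of the model of Fi24. -/

set_option autoImplicit false
set_option linter.style.haveILetI false
set_option maxRecDepth 100000

open Cfsg.Agent.Spor.Cos
open Cfsg.Agent.Spor.Cos.Fi23 (actA piA homA g g_sq g_gen)
open Cfsg.Agent.Fus.M23U.TypeOf (dp dp_equivariant)
open Cfsg.Agent.Fus.M23U.Triality (pt pt_val inv_pt ge img_spec ge_letter gw gi gw_lt)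

namespace Cfsg.Agent.Fus.Fi24Model

theorem zero_kap : kimN 0 = A0 + 1 := by decide +kernel
theorem cpt_kap : kimN (A0 + 0) = A0 + 0 := by decide +kernel
theorem out_kap : kimN (1 + p0) = A0 + imA 0 0 := by decide +kernel
theorem rk_eq : rk = imA 0 0 := by decide +kernel
theorem rk_kap : kimN (A0 + Nat.xor rk 1) = A0 + Nat.xor rk 1 := by decide +kernel
theorem rz_eq : mimN 0 (kimN (1 + q1)) = A0 + rz := by decide +kernel
theorem p0_out : inW p0 = false := by decide +kernel
theorem q1_out : inW q1 = false := by decide +kernel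
theorem cpt_fixed : ∀ s < 9, imA (s + 1) 0 = 0 := by decide +kernel
theorem nine_fixed : Nat.xor (goA (gw 9) 0) 1 = 0 := by decide +kernel
theorem first_word : actA.go [1, 0] (M23U.Triality.posT.at (gi 0)) = p0 := by decide +kernel
theorem roots_lt : rk < nA ∧ rz < nA ∧ q1 < 31671 := by decide +kernel
theorem gi_nine : gi 9 < 3240 := by decide +kernel

/-- The first neighbour outside the common ones. -/
def pOut : Fin actA.N := ⟨p0, by rw [N_eq, p0]; norm_num⟩

/-- Another neighbour outside the common ones. -/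
def qOut : Fin actA.N := ⟨q1, lt_of_lt_of_eq roots_lt.2.2 N_eq.symm⟩

theorem dp_pOut : dp pOut = g 0 := by
  have h1 : g 1 = dp (pt (gi 0)) := (ge_letter (a := 0) (by norm_num)).symm.trans (M23U.Triality.ge_eq (by norm_num))
  have e : piA (g 1 * g 0) (pt (gi 0)) = pOut := by
    rw [show g 1 * g 0 = ev g [1, 0] by simp [ev]]
    refine Fin.ext ?_
    rw [homA.apply_ev _ (by decide) (pt (gi 0)), pt_val (M23U.Triality.gi_lt (by norm_num)).1]
    exact first_word
  rw [← e, dp_equivariant, ← h1, mul_inv_rev, inv_eq_of_mul_eq_one_right (g_sq 0),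
    inv_eq_of_mul_eq_one_right (g_sq 1)]
  have h := Fi23.g_words [0, 1, 0, 1, 0, 1] (by decide +kernel)
  simp only [ev, mul_one] at h
  calc g 1 * g 0 * g 1 * (g 0 * g 1) = g 0 * (g 0 * (g 1 * (g 0 * (g 1 * (g 0 * g 1))))) := by
        rw [← mul_assoc (g 0) (g 0), g_sq, one_mul]; simp only [mul_assoc]
    _ = g 0 := by rw [h, mul_one]

theorem inW_pt {j : ℕ} (hj : j < 3240) : inW (pt j) = true := by
  rw [inW, force_eq, inv_pt hj, ← pt_val hj, Bool.and_eq_true]
  exact ⟨Nat.ble_eq_true_of_le hj, Nat.beq_refl _⟩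

theorem exists_pt {p : Fin actA.N} (h : inW p = true) : ∃ j < 3240, pt j = p := by
  rw [inW, force_eq, Bool.and_eq_true] at h
  have hj : M23U.Triality.invT.at p < 3240 := Nat.le_of_ble_eq_true h.1
  exact ⟨_, hj, Fin.ext ((pt_val hj).trans (Nat.eq_of_beq_eq_true h.2))⟩

theorem inW_ge {k : ℕ} (hk : k < 10) {p : Fin actA.N} (h : inW p = true) : inW (piA (ge k) p) = true := by
  obtain ⟨j, hj, rfl⟩ := exists_pt h
  obtain ⟨e, hl, -⟩ := img_spec hk hj
  rw [e]
  exact inW_pt hl

theorem inW_ge_iff {k : ℕ} (hk : k < 10) (p : Fin actA.N) : inW (piA (ge k) p) = inW p := by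
  apply Bool.eq_iff_iff.2
  refine ⟨fun h => ?_, inW_ge hk⟩
  have h' := inW_ge hk h
  rwa [← Equiv.Perm.mul_apply, ← map_mul, M23U.Triality.ge_sq (by omega), map_one, Equiv.Perm.one_apply] at h'

theorem inW_g {s : ℕ} (hs : s < 9) (p : Fin actA.N) : inW (piA (g (s + 1)) p) = inW p := by
  rw [← ge_letter hs]
  exact inW_ge_iff (by omega) p

theorem kap_inW {p : Fin actA.N} (h : inW p = true) : kap (pP p) = pP p := by
  have hc := chkTP_all p (lt_of_lt_of_eq p.2 N_eq)
  rw [chkTP, h, cond_true] at hc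
  exact Fin.ext (by rw [kap_val]; exact Nat.eq_of_beq_eq_true hc)

theorem out_ind {P : Fin actA.N → Prop} (h0 : P pOut)
    (hstep : ∀ s < 9, ∀ p : Fin actA.N, inW p = false → P p → P (piA (g (s + 1)) p)) :
    ∀ p : Fin actA.N, inW p = false → P p := by
  suffices ∀ n, ∀ p : Fin actA.N, depP.at p / 16 = n → inW p = false → P p from fun p hp => this _ p rfl hp
  intro n
  induction n using Nat.strong_induction_on with
  | _ n ih =>
    intro p hn hp
    have hc := chkTP_all p (lt_of_lt_of_eq p.2 N_eq)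
    simp only [chkTP, hp, cond_false, force_eq, Bool.or_eq_true, Bool.and_eq_true] at hc
    rcases hc with hc | ⟨⟨h1, h2⟩, hv, hd⟩
    · obtain rfl : p = pOut := Fin.ext (Nat.eq_of_beq_eq_true hc)
      exact h0
    obtain ⟨s, hs⟩ : ∃ s, depP.at p % 16 = s + 1 := ⟨depP.at p % 16 - 1, by
      have := Nat.le_of_ble_eq_true h1; omega⟩
    have hs9 : s < 9 := by
      have := Nat.le_of_ble_eq_true h2
      omega
    rw [hs] at hv hd
    have e : ((piA (g (s + 1)) p : Fin actA.N) : ℕ) = actA.im p (s + 1) := by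
      rw [homA.gen, actA.perm_apply homA.inv (show s + 1 < actA.n by rw [n_eq]; omega)]
    rw [← e] at hv hd
    have hv' : inW (piA (g (s + 1)) p) = false := by rw [inW_g hs9]; exact hp
    have := hstep s hs9 _ hv' (ih _ (hn ▸ Nat.le_of_ble_eq_true hd) _ rfl hv')
    rwa [← Equiv.Perm.mul_apply, ← map_mul, g_sq, map_one, Equiv.Perm.one_apply] at this

/-- An apart point by its index. -/
noncomputable def mA (s : ℕ) (hs : s < 10) (i : Fin nA) : Fin nA := ⟨imA s i, (imA_spec hs i.2).1⟩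

theorem mA_mA {s : ℕ} (hs : s < 10) (i : Fin nA) : mA s hs (mA s hs i) = i := Fin.ext (imA_spec hs i.2).2

theorem apart_ind {P : Fin nA → Prop} (h0 : ∀ i : Fin nA, (i : ℕ) < 2 → P i)
    (h1 : P ⟨rk, roots_lt.1⟩) (h2 : P ⟨Nat.xor rk 1, xor_one_lt roots_lt.1⟩) (h3 : P ⟨rz, roots_lt.2.1⟩)
    (hstep : ∀ s, ∀ hs : s < 9, ∀ i, P i → P (mA (s + 1) (by omega) i)) : ∀ i, P i := by
  suffices ∀ n, ∀ i : Fin nA, depT.at i / 16 = n → P i from fun i => this _ i rfl
  intro n
  induction n using Nat.strong_induction_on with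
  | _ n ih =>
    intro i hn
    have hc := chkTA_all i (lt_of_lt_of_eq i.2 nA_eq)
    simp only [chkTA, force_eq, Bool.or_eq_true, Bool.and_eq_true] at hc
    rcases hc with hc | ⟨⟨ha, hb⟩, hd, -⟩
    · exact h0 i (Nat.le_of_ble_eq_true hc)
    rcases hd with ((hd | hd) | hd) | hd
    · obtain rfl : i = ⟨rk, roots_lt.1⟩ := Fin.ext (Nat.eq_of_beq_eq_true hd)
      exact h1
    · obtain rfl : i = ⟨Nat.xor rk 1, xor_one_lt roots_lt.1⟩ := Fin.ext (Nat.eq_of_beq_eq_true hd)
      exact h2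
    · obtain rfl : i = ⟨rz, roots_lt.2.1⟩ := Fin.ext (Nat.eq_of_beq_eq_true hd)
      exact h3
    obtain ⟨s, hs⟩ : ∃ s, depT.at i % 16 = s + 1 := ⟨depT.at i % 16 - 1, by
      have := Nat.le_of_ble_eq_true ha; omega⟩
    have hs9 : s < 9 := by
      have := Nat.le_of_ble_eq_true hb
      omega
    rw [hs] at hd
    have := hstep s hs9 _ (ih _ (hn ▸ Nat.le_of_ble_eq_true hd) (mA (s + 1) (by omega) i) rfl)
    rwa [mA_mA] at this

theorem moved (i : Fin nA) (hi : 2 ≤ (i : ℕ)) : ∃ s, ∃ hs : s < 9, mA (s + 1) (by omega) i ≠ i := by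
  have hc := chkTA_all i (lt_of_lt_of_eq i.2 nA_eq)
  simp only [chkTA, force_eq, Bool.or_eq_true, Bool.and_eq_true] at hc
  rcases hc with hc | ⟨⟨ha, hb⟩, -, hne⟩
  · exact absurd (Nat.le_of_ble_eq_true hc) (by omega)
  have h1 := Nat.le_of_ble_eq_true ha
  have h2 := Nat.le_of_ble_eq_true hb
  refine ⟨depT.at i % 16 - 1, by omega, fun e => ?_⟩
  have e' : imA (depT.at i % 16) i = i := by
    have := congrArg Fin.val e
    simp only [mA] at this
    rwa [show depT.at i % 16 - 1 + 1 = depT.at i % 16 by omega] at this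
  rw [e', Nat.beq_refl, cond_true] at hne
  exact Bool.false_ne_true hne

end Cfsg.Agent.Fus.Fi24Model
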